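import Cfsg.Agent.Blocks.GroupAlgebra
import Mathlib.Algebra.MonoidAlgebra.Basic
import Mathlib.RepresentationTheory.AlgebraRepresentation.Basic
import Mathlib.RingTheory.SimpleModule.Basic
import Mathlib.GroupTheory.Sylow
import Mathlib.FieldTheory.IsAlgClosed.Basic
import Mathlib.LinearAlgebra.Dual.Lemmas

/-!
# Simple modules of groups with a Sylow subgroup of order `p`

For a module `S` over the group algebra in characteristic `p` and a subgroup `P` of order `p`, an
eigenvector of `N(P)` with character `ω` not in the image of the sum of the elements of `P` is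
called an invariant of type `ω`.  A simple module has invariants of at most one type, and every
type occurs.
-/

set_option autoImplicit false
set_option linter.style.haveILetI false
set_option linter.unusedSectionVars false

namespace CfsgLib.BlocksCyclic

universe u v w

variable {k : Type v} [Field k] {G : Type u} [Group G] {p : ℕ}
  {S : Type w} [AddCommGroup S] [Module k S] [Module (MonoidAlgebra k G) S]
  [IsScalarTower k (MonoidAlgebra k G) S]

/-- The action of a group element on a module over the group algebra. -/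
noncomputable def act (g : G) : Module.End k S :=
  Algebra.lsmul k k S (MonoidAlgebra.single g 1 : MonoidAlgebra k G)

theorem act_apply (g : G) (v : S) :
    (act g : Module.End k S) v = (MonoidAlgebra.single g 1 : MonoidAlgebra k G) • v := rfl

theorem act_one : (act (1 : G) : Module.End k S) = 1 := by
  rw [act, ← MonoidAlgebra.one_def, map_one]

theorem act_mul (g h : G) : (act (g * h) : Module.End k S) = act g * act h := by
  rw [act, act, act, ← map_mul, MonoidAlgebra.single_mul_single, one_mul]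

theorem act_mul_apply (g h : G) (v : S) :
    (act (g * h) : Module.End k S) v = (act g : Module.End k S) ((act h : Module.End k S) v) := by
  rw [act_mul, Module.End.mul_apply]

theorem smul_eq_sum_act [Fintype G] (z : MonoidAlgebra k G) (v : S) :
    z • v = ∑ h : G, z.coeff h • (act h : Module.End k S) v := by
  classical
  induction z using MonoidAlgebra.induction_linear with
  | zero => simp
  | add x y hx hy =>
    simp only [add_smul, hx, hy, MonoidAlgebra.coeff_add, Finsupp.add_apply, Finset.sum_add_distrib]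
  | single g r =>
    rw [Finset.sum_eq_single g (fun b _ hb => by simp [hb.symm]) (by simp)]
    rw [act_apply, ← smul_assoc]
    simp

/-- The sum of the elements of a subgroup. -/
noncomputable def normP (P : Subgroup G) [Fintype P] : Module.End k S := ∑ u : P, act (u : G)

theorem normP_apply (P : Subgroup G) [Fintype P] (v : S) :
    (normP P : Module.End k S) v = ∑ u : P, (act (u : G) : Module.End k S) v := by
  rw [normP, LinearMap.sum_apply]

theorem act_normP (P : Subgroup G) [Fintype P] {u : G} (hu : u ∈ P) (v : S) :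
    (act u : Module.End k S) ((normP P : Module.End k S) v) = (normP P : Module.End k S) v := by
  rw [normP_apply, map_sum]
  refine Fintype.sum_equiv (Equiv.mulLeft (⟨u, hu⟩ : P)) _ _ fun x => ?_
  rw [← act_mul_apply]; rfl

theorem normP_comm (P : Subgroup G) [Fintype P] {n : G}
    (hn : n ∈ Subgroup.normalizer (P : Set G)) (v : S) :
    (act n : Module.End k S) ((normP P : Module.End k S) v) =
      (normP P : Module.End k S) ((act n : Module.End k S) v) := by
  rw [normP_apply, normP_apply, map_sum]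
  let e : P ≃ P :=
    { toFun := fun x => ⟨n * x * n⁻¹, (Subgroup.mem_normalizer_iff.1 hn x).1 x.2⟩
      invFun := fun x => ⟨n⁻¹ * x * n, (Subgroup.mem_normalizer_iff.1 hn _).2 (by
        simpa [mul_assoc] using x.2)⟩
      left_inv := fun x => Subtype.ext (by simp [mul_assoc])
      right_inv := fun x => Subtype.ext (by simp [mul_assoc]) }
  refine Fintype.sum_equiv e _ _ fun x => ?_
  rw [← act_mul_apply, ← act_mul_apply]
  simp [e]

/-- An eigenvector of the normalizer. -/
def IsEigen (P : Subgroup G) (ω : Subgroup.normalizer (P : Set G) →* kˣ) (v : S) : Prop :=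
  ∀ n : Subgroup.normalizer (P : Set G),
    (act (n : G) : Module.End k S) v = ((ω n : kˣ) : k) • v

theorem omega_eq_one [Fact p.Prime] [CharP k p] {P : Subgroup G} (hP : Nat.card P = p)
    (ω : Subgroup.normalizer (P : Set G) →* kˣ) (n : Subgroup.normalizer (P : Set G))
    (hn : (n : G) ∈ P) : ω n = 1 := by
  have h1 : n ^ p = 1 := by
    have := congrArg Subtype.val (pow_card_eq_one' (x := (⟨(n : G), hn⟩ : P)))
    rw [hP] at this
    exact Subtype.ext (by simpa using this)
  have h2 : ((ω n : kˣ) : k) ^ p = 1 := by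
    rw [← Units.val_pow_eq_pow_val, ← map_pow, h1, map_one, Units.val_one]
  have h3 : (((ω n : kˣ) : k) - 1) ^ p = 0 := by rw [sub_pow_char, h2, one_pow, sub_self]
  exact Units.ext (sub_eq_zero.1 (pow_eq_zero_iff (Fact.out : p.Prime).ne_zero |>.1 h3))

theorem IsEigen.fixed [Fact p.Prime] [CharP k p] {P : Subgroup G} (hP : Nat.card P = p)
    {ω : Subgroup.normalizer (P : Set G) →* kˣ} {v : S} (hv : IsEigen P ω v) {u : G} (hu : u ∈ P) :
    (act u : Module.End k S) v = v := by
  have := hv ⟨u, Subgroup.le_normalizer hu⟩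
  rwa [omega_eq_one hP ω ⟨u, Subgroup.le_normalizer hu⟩ hu, Units.val_one, one_smul] at this

/-- Sums over free orbits of an equivariant function lie in the image of the norm. -/
theorem exists_normP_eq_sum_of_free {P : Subgroup G} [Fintype P] {X : Type*} [Fintype X]
    [MulAction P X] (s : Finset X) (hs : ∀ (u : P), ∀ x ∈ s, u • x ∈ s)
    (hfree : ∀ (u : P), ∀ x ∈ s, u • x = x → u = 1) (F : X → S)
    (hF : ∀ (u : P), ∀ x ∈ s, F (u • x) = (act (u : G) : Module.End k S) (F x)) :
    ∃ y : S, ∑ x ∈ s, F x = (normP P : Module.End k S) y := by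
  classical
  refine ⟨∑ o ∈ s.image (Quotient.mk'' : X → MulAction.orbitRel.Quotient P X), F o.out, ?_⟩
  rw [map_sum, ← Finset.sum_fiberwise_of_maps_to
    (g := (Quotient.mk'' : X → MulAction.orbitRel.Quotient P X))
    (fun x hx => Finset.mem_image_of_mem _ hx)]
  refine Finset.sum_congr rfl fun o ho => ?_
  obtain ⟨x₀, hx₀, rfl⟩ := Finset.mem_image.1 ho
  obtain ⟨u₀, hu₀⟩ : ∃ u : P, u • x₀ =
      (Quotient.mk'' x₀ : MulAction.orbitRel.Quotient P X).out :=
    MulAction.mem_orbit_iff.1 (Quotient.mk_out (s := MulAction.orbitRel P X) x₀)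
  set x := (Quotient.mk'' x₀ : MulAction.orbitRel.Quotient P X).out
  have hxs : x ∈ s := hu₀ ▸ hs u₀ x₀ hx₀
  have hxq : (Quotient.mk'' x : MulAction.orbitRel.Quotient P X) = Quotient.mk'' x₀ :=
    Quotient.out_eq _
  rw [normP_apply]
  symm
  refine Finset.sum_bij (fun u _ => u • x) (fun u _ => ?_) (fun u _ u' _ h => ?_) (fun y hy => ?_)
    (fun u _ => (hF u x hxs).symm)
  · refine Finset.mem_filter.2 ⟨hs u x hxs, ?_⟩
    rw [← hxq]
    exact Quotient.eq''.2 (MulAction.mem_orbit x u)
  · have := hfree (u'⁻¹ * u) x hxs (by rw [mul_smul, h, inv_smul_smul])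
    exact (inv_mul_eq_one.1 this).symm
  · obtain ⟨hys, hyq⟩ := Finset.mem_filter.1 hy
    rw [← hxq] at hyq
    obtain ⟨u, hu⟩ := MulAction.mem_orbit_iff.1 (MulAction.orbitRel_apply.1 (Quotient.eq''.1 hyq))
    exact ⟨u, Finset.mem_univ _, hu⟩

theorem mem_normalizer_of_fix_coset [Finite G] [Fact p.Prime] {P : Subgroup G}
    (hP : Nat.card P = p) {u : G} (hu : u ∈ P) (hu1 : u ≠ 1) {g : G} (hg : g⁻¹ * u * g ∈ P) :
    g ∈ Subgroup.normalizer (P : Set G) := by
  have hz : Subgroup.zpowers u = P := by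
    refine Subgroup.eq_of_le_of_card_ge (Subgroup.zpowers_le.2 hu) ?_
    rw [hP, Nat.card_zpowers, orderOf_eq_prime (G := G) (p := p) ?_ hu1]
    have := congrArg Subtype.val (pow_card_eq_one' (x := (⟨u, hu⟩ : P)))
    rw [hP] at this
    simpa using this
  have hle : Subgroup.map (MulAut.conj g⁻¹).toMonoidHom P ≤ P := by
    conv_lhs => rw [← hz]
    rw [MonoidHom.map_zpowers, Subgroup.zpowers_le]
    simpa using hg
  have heq : Subgroup.map (MulAut.conj g⁻¹).toMonoidHom P = P :=
    Subgroup.eq_of_le_of_card_ge hle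
      (Subgroup.card_map_of_injective (f := (MulAut.conj g⁻¹).toMonoidHom) (MulAut.conj g⁻¹).injective).ge
  have := Subgroup.inv_mem _ (Subgroup.mem_normalizer_iff_map_conj_eq.2 heq)
  rwa [inv_inv] at this

theorem pow_sub_one_eq_geom [Fact p.Prime] [CharP k p] :
    ((Polynomial.X : Polynomial k) - 1) ^ (p - 1) = ∑ i ∈ Finset.range p, Polynomial.X ^ i := by
  have h0 : ((Polynomial.X : Polynomial k) - 1) ≠ 0 := by
    rw [← Polynomial.C_1]; exact Polynomial.X_sub_C_ne_zero 1
  refine mul_right_cancel₀ h0 ?_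
  rw [← pow_succ, Nat.sub_add_cancel (Fact.out : p.Prime).one_le, geom_sum_mul, sub_pow_char,
    one_pow]

theorem normP_eq_pow [Fact p.Prime] [CharP k p] {P : Subgroup G} [Fintype P]
    (hP : Nat.card P = p) {u : P} (hu : u ≠ 1) :
    (normP P : Module.End k S) = ((act (u : G) : Module.End k S) - 1) ^ (p - 1) := by
  have hord : orderOf u = p := orderOf_eq_prime (hP ▸ pow_card_eq_one') hu
  have hpow : ∀ i : ℕ, (act ((u : G) ^ i) : Module.End k S) = (act (u : G)) ^ i := by
    intro i
    induction i with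
    | zero => rw [pow_zero, pow_zero, act_one]
    | succ i ih => rw [pow_succ, pow_succ, act_mul, ih]
  have h := congrArg (Polynomial.aeval (act (u : G) : Module.End k S)) (pow_sub_one_eq_geom (k := k) (p := p))
  simp only [map_pow, map_sub, Polynomial.aeval_X, map_one, map_sum] at h
  rw [h, normP]
  refine (Finset.sum_bij (fun i _ => u ^ i) (fun i _ => Finset.mem_univ _) (fun i hi j hj hij => ?_)
    (fun x _ => ?_) (fun i _ => ?_)).symm
  · exact pow_injOn_Iio_orderOf (by simpa [hord] using hi) (by simpa [hord] using hj) hij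
  · haveI := Fintype.ofFinite P
    have hx : x ∈ Subgroup.zpowers u := mem_zpowers_of_prime_card hP hu
    obtain ⟨i, hi⟩ := (isOfFinOrder_of_finite u).mem_powers_iff_mem_zpowers.2 hx
    exact ⟨i % p, Finset.mem_range.2 (Nat.mod_lt _ (Fact.out : p.Prime).pos), by
      rw [← hord, pow_mod_orderOf]; exact hi⟩
  · rw [Subgroup.coe_pow, hpow]

variable [Finite G] [Fact p.Prime] [CharP k p]

open Classical in
/-- The cosets of `P` in its normalizer. -/
noncomputable def normCosets (P : Subgroup G) [Fintype (G ⧸ P)] : Finset (G ⧸ P) :=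
  Finset.univ.filter fun q => q.out ∈ Subgroup.normalizer (P : Set G)

theorem mem_normCosets {P : Subgroup G} [Fintype (G ⧸ P)] {q : G ⧸ P} :
    q ∈ normCosets P ↔ q.out ∈ Subgroup.normalizer (P : Set G) := by
  classical
  simp [normCosets]

theorem mk_mem_normCosets_iff {P : Subgroup G} [Fintype (G ⧸ P)] {g : G} :
    (QuotientGroup.mk g : G ⧸ P) ∈ normCosets P ↔ g ∈ Subgroup.normalizer (P : Set G) := by
  obtain ⟨u, hu⟩ := QuotientGroup.mk_out_eq_mul P g
  rw [mem_normCosets, hu]
  exact Subgroup.mul_mem_cancel_right _ (Subgroup.le_normalizer u.2)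

theorem natCast_card_normCosets_ne_zero {P : Subgroup G} [Fintype (G ⧸ P)] (hidx : ¬ p ∣ P.index) :
    ((normCosets P).card : k) ≠ 0 := by
  rw [Ne, CharP.cast_eq_zero_iff k p]
  have hle : P ≤ Subgroup.normalizer (P : Set G) := Subgroup.le_normalizer
  have h : (normCosets P).card = P.relIndex (Subgroup.normalizer (P : Set G)) := by
    rw [Subgroup.relIndex, Subgroup.index_eq_card, ← Nat.card_eq_finsetCard]
    refine (Nat.card_congr (Equiv.ofBijective
      (Quotient.lift (fun n : Subgroup.normalizer (P : Set G) =>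
        (⟨QuotientGroup.mk (n : G), mk_mem_normCosets_iff.2 n.2⟩ : {q // q ∈ normCosets P}))
        (fun a b hab => Subtype.ext (QuotientGroup.eq.2 (by
          simpa [Subgroup.mem_subgroupOf] using QuotientGroup.leftRel_apply.1 hab)))) ⟨?_, ?_⟩)).symm
    · rintro ⟨a⟩ ⟨b⟩ hab
      refine QuotientGroup.eq.2 ?_
      simpa [Subgroup.mem_subgroupOf] using QuotientGroup.eq.1 (congrArg Subtype.val hab)
    · rintro ⟨q, hq⟩
      exact ⟨QuotientGroup.mk ⟨q.out, mem_normCosets.1 hq⟩, Subtype.ext (QuotientGroup.out_eq' q)⟩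
  rw [h]
  exact fun hd => hidx (hd.trans (Subgroup.relIndex_dvd_index_of_le hle))

/-- Translation by an element of the normalizer permutes its cosets. -/
theorem sum_normCosets_translate {P : Subgroup G} [Fintype (G ⧸ P)] {β : Type*} [AddCommMonoid β]
    (f : G → β) (hf : ∀ g ∈ Subgroup.normalizer (P : Set G), ∀ u ∈ P, f (g * u) = f g)
    {n : G} (hn : n ∈ Subgroup.normalizer (P : Set G)) :
    ∑ q ∈ normCosets P, f (n * q.out) = ∑ q ∈ normCosets P, f q.out := by
  have hmem : ∀ m ∈ Subgroup.normalizer (P : Set G), ∀ q ∈ normCosets P,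
      (QuotientGroup.mk (m * q.out) : G ⧸ P) ∈ normCosets P := fun m hm q hq =>
    mk_mem_normCosets_iff.2 (Subgroup.mul_mem _ hm (mem_normCosets.1 hq))
  have key : ∀ a b : G, ∀ q : G ⧸ P, a * b = 1 →
      (QuotientGroup.mk (a * (QuotientGroup.mk (b * q.out) : G ⧸ P).out) : G ⧸ P) = q := by
    intro a b q hab
    obtain ⟨u, hu⟩ := QuotientGroup.mk_out_eq_mul P (b * q.out)
    rw [hu, ← mul_assoc, ← mul_assoc, hab, one_mul, QuotientGroup.mk_mul_of_mem _ u.2,
      QuotientGroup.out_eq']
  refine Finset.sum_bij' (fun q _ => QuotientGroup.mk (n * q.out))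
    (fun q _ => QuotientGroup.mk (n⁻¹ * q.out)) (fun q hq => hmem n hn q hq)
    (fun q hq => hmem _ (Subgroup.inv_mem _ hn) q hq)
    (fun q _ => key _ _ q (inv_mul_cancel n)) (fun q _ => key _ _ q (mul_inv_cancel n))
    (fun q hq => ?_)
  obtain ⟨u, hu⟩ := QuotientGroup.mk_out_eq_mul P (n * q.out)
  show f (n * q.out) = f _
  rw [hu, hf _ (Subgroup.mul_mem _ hn (mem_normCosets.1 hq)) u u.2]

open Classical in
/-- A nontrivial character of the normalizer sums to zero over its cosets of `P`. -/
theorem sum_normCosets_char {P : Subgroup G} [Fintype (G ⧸ P)] (hP : Nat.card P = p)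
    {χ : Subgroup.normalizer (P : Set G) →* kˣ} (hχ : χ ≠ 1) :
    (∑ q ∈ normCosets P, if h : q.out ∈ Subgroup.normalizer (P : Set G) then
      ((χ ⟨q.out, h⟩ : kˣ) : k) else 0) = 0 := by
  classical
  obtain ⟨n, hn⟩ : ∃ n, χ n ≠ 1 := by
    by_contra! h
    exact hχ (MonoidHom.ext h)
  set f : G → k := fun g => if h : g ∈ Subgroup.normalizer (P : Set G) then
    ((χ ⟨g, h⟩ : kˣ) : k) else 0 with hf
  have h1 := sum_normCosets_translate f (P := P) (fun g hg u hu => by
    have hu' : u ∈ Subgroup.normalizer (P : Set G) := Subgroup.le_normalizer hu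
    simp only [hf, dif_pos hg, dif_pos (Subgroup.mul_mem _ hg hu')]
    rw [show (⟨g * u, Subgroup.mul_mem _ hg hu'⟩ : Subgroup.normalizer (P : Set G)) =
      ⟨g, hg⟩ * ⟨u, hu'⟩ from rfl, map_mul, omega_eq_one hP χ ⟨u, hu'⟩ hu, mul_one]) n.2
  have h2 : ∑ q ∈ normCosets P, f ((n : G) * q.out) =
      ((χ n : kˣ) : k) * ∑ q ∈ normCosets P, f q.out := by
    rw [Finset.mul_sum]
    refine Finset.sum_congr rfl fun q hq => ?_
    have hq' := mem_normCosets.1 hq
    simp only [hf, dif_pos hq', dif_pos (Subgroup.mul_mem _ n.2 hq')]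
    rw [← Units.val_mul, ← map_mul]
    rfl
  rw [h1] at h2
  by_contra hne
  exact hn (Units.ext (mul_right_cancel₀ hne (by rw [← h2, Units.val_one, one_mul])))

/-- Split a `P`-invariant sum over all cosets into the normalizer part and a norm. -/
theorem exists_normP_eq_coset_sum {P : Subgroup G} [Fintype P] [Fintype (G ⧸ P)]
    (hP : Nat.card P = p) (F : G → S) (hF : ∀ g, ∀ u ∈ P, F (g * u) = F g)
    (hFl : ∀ u ∈ P, ∀ g, F (u * g) = (act u : Module.End k S) (F g)) :
    ∃ y : S, ∑ q : G ⧸ P, F q.out =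
      (∑ q ∈ normCosets P, F q.out) + (normP P : Module.End k S) y := by
  classical
  have hsm : ∀ (u : P) (q : G ⧸ P), u • q = QuotientGroup.mk ((u : G) * q.out) := fun u q => by
    conv_lhs => rw [← QuotientGroup.out_eq' q]
    rfl
  have hs : ∀ (u : P), ∀ q ∈ (normCosets P)ᶜ, u • q ∈ (normCosets P)ᶜ := by
    intro u q hq
    rw [Finset.mem_compl, mem_normCosets] at hq
    rw [Finset.mem_compl, hsm, mk_mem_normCosets_iff]
    exact fun h => hq ((Subgroup.mul_mem_cancel_left _ (Subgroup.le_normalizer u.2)).1 h)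
  have hfree : ∀ (u : P), ∀ q ∈ (normCosets P)ᶜ, u • q = q → u = 1 := by
    intro u q hq h
    rw [Finset.mem_compl, mem_normCosets] at hq
    by_contra hu
    rw [hsm] at h
    conv_rhs at h => rw [← QuotientGroup.out_eq' q]
    have h' := Subgroup.inv_mem _ (QuotientGroup.eq.1 h)
    refine hq (mem_normalizer_of_fix_coset hP u.2 (fun h1 => hu (Subtype.ext h1)) ?_)
    simpa [mul_assoc] using h'
  obtain ⟨y, hy⟩ := exists_normP_eq_sum_of_free (k := k) (S := S) (normCosets P)ᶜ hs hfree
    (fun q => F q.out) (fun u q _ => by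
      show F (u • q).out = _
      rw [hsm]
      obtain ⟨w, hw⟩ := QuotientGroup.mk_out_eq_mul P ((u : G) * q.out)
      rw [hw, hF _ _ w.2, hFl _ u.2])
  exact ⟨y, by rw [← hy, Finset.sum_add_sum_compl]⟩

/-- A simple module has invariants of at most one type. -/
theorem eigen_unique [IsAlgClosed k] [IsSimpleModule (MonoidAlgebra k G) S] [FiniteDimensional k S]
    {P : Subgroup G} [Fintype P] (hP : Nat.card P = p) (hidx : ¬ p ∣ P.index)
    {ω₁ ω₂ : Subgroup.normalizer (P : Set G) →* kˣ} {v₁ v₂ : S}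
    (h₁ : IsEigen P ω₁ v₁) (n₁ : v₁ ∉ LinearMap.range (normP P : Module.End k S))
    (h₂ : IsEigen P ω₂ v₂) (n₂ : v₂ ∉ LinearMap.range (normP P : Module.End k S)) :
    ω₁ = ω₂ := by
  classical
  haveI := Fintype.ofFinite G
  haveI := Fintype.ofFinite (G ⧸ P)
  haveI : Nontrivial P := Finite.one_lt_card_iff_nontrivial.1 (hP ▸ (Fact.out : p.Prime).one_lt)
  obtain ⟨u₀, hu₀⟩ := exists_ne (1 : P)
  set D : Module.End k S := (act (u₀ : G) : Module.End k S) - 1 with hD
  have hD2 : D v₂ = 0 := by
    rw [hD, LinearMap.sub_apply, h₂.fixed hP u₀.2, Module.End.one_apply, sub_self]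
  have hD1 : D v₁ = 0 := by
    rw [hD, LinearMap.sub_apply, h₁.fixed hP u₀.2, Module.End.one_apply, sub_self]
  -- the least `j` such that `v₂` is not in the image of `D ^ j`
  have hex : ∃ j, v₂ ∉ LinearMap.range (D ^ j) := ⟨p - 1, by rwa [← normP_eq_pow hP hu₀]⟩
  set j := Nat.find hex with hj
  have hj0 : j ≠ 0 := by
    intro h0
    have := Nat.find_spec hex
    rw [← hj, h0, pow_zero] at this
    exact this ⟨v₂, rfl⟩
  obtain ⟨w, hw⟩ : v₂ ∈ LinearMap.range (D ^ (j - 1)) := by
    by_contra hcon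
    exact Nat.find_min hex (show j - 1 < j by omega) hcon
  have hjw : (D ^ j) w = 0 := by
    rw [show j = (j - 1) + 1 by omega, pow_succ', Module.End.mul_apply, hw, hD2]
  obtain ⟨ψ₀, hψ₀, hψ₀'⟩ := Submodule.exists_dual_map_eq_bot_of_notMem (Nat.find_spec hex)
    inferInstance
  set ψ : Module.Dual k S := (ψ₀ v₂)⁻¹ • ψ₀ with hψ
  have hψ2 : ψ v₂ = 1 := by
    rw [hψ, LinearMap.smul_apply, smul_eq_mul, inv_mul_cancel₀ hψ₀]
  have hψD : ∀ x, ψ ((D ^ j) x) = 0 := fun x => by
    have : ψ₀ ((D ^ j) x) ∈ (LinearMap.range (D ^ j)).map ψ₀ :=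
      Submodule.mem_map_of_mem ⟨x, rfl⟩
    rw [hψ₀', Submodule.mem_bot] at this
    rw [hψ, LinearMap.smul_apply, this, smul_zero]
  -- the endomorphism commuting with `P`
  let f : Module.End k S :=
    ∑ a ∈ Finset.range j, (ψ.comp (D ^ (j - 1 - a))).smulRight ((D ^ a) w)
  have hfx : ∀ x, f x = ∑ a ∈ Finset.range j, ψ ((D ^ (j - 1 - a)) x) • (D ^ a) w := fun x => by
    simp [f, LinearMap.sum_apply]
  have hker : ∀ v, D v = 0 → f v = ψ v • v₂ := fun v hv => by
    rw [hfx, Finset.sum_eq_single (j - 1)]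
    · rw [Nat.sub_self, pow_zero, Module.End.one_apply, hw]
    · intro a ha hne
      have hex' : ∃ c, j - 1 - a = c + 1 := ⟨j - 1 - a - 1, by
        rw [Finset.mem_range] at ha; omega⟩
      obtain ⟨c, hc⟩ := hex'
      rw [hc, pow_succ, Module.End.mul_apply, hv, map_zero, map_zero, zero_smul]
    · intro h; exact absurd (Finset.mem_range.2 (by omega)) h
  have hfD : f * D = D * f := by
    refine LinearMap.ext fun x => ?_
    rw [Module.End.mul_apply, Module.End.mul_apply, hfx, hfx, map_sum]
    simp only [map_smul, ← Module.End.mul_apply, ← pow_succ, ← pow_succ']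
    obtain ⟨i, hi⟩ : ∃ i, j = i + 1 := ⟨j - 1, by omega⟩
    rw [hi, Finset.sum_range_succ', Finset.sum_range_succ]
    rw [show i + 1 - 1 - 0 + 1 = j by omega, hψD, zero_smul, add_zero,
      show i + 1 = j from hi.symm, hjw, smul_zero, add_zero]
    refine Finset.sum_congr rfl fun a ha => ?_
    rw [Finset.mem_range] at ha
    rw [show j - 1 - (a + 1) + 1 = j - 1 - a by omega]
  have hfu : ∀ u ∈ P, f * (act u : Module.End k S) = (act u : Module.End k S) * f := by
    intro u hu
    have h0 : f * (act (u₀ : G) : Module.End k S) = (act (u₀ : G) : Module.End k S) * f := by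
      have e : (act (u₀ : G) : Module.End k S) = D + 1 := by rw [hD, sub_add_cancel]
      rw [e, mul_add, add_mul, hfD, mul_one, one_mul]
    have hmem := mem_zpowers_of_prime_card hP hu₀ (g' := ⟨u, hu⟩)
    obtain ⟨i, hi⟩ := (isOfFinOrder_of_finite u₀).mem_powers_iff_mem_zpowers.2 hmem
    have hui : u = (u₀ : G) ^ i := by
      have := congrArg Subtype.val hi
      simpa using this.symm
    subst hui
    clear hi hmem hu
    induction i with
    | zero => rw [pow_zero, act_one, mul_one, one_mul]
    | succ i ih => rw [pow_succ, act_mul, ← mul_assoc, ih, mul_assoc, h0, ← mul_assoc]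
  -- the transfer
  set φ : G → Module.End k S := fun g => act g * f * act g⁻¹ with hφ
  have hφr : ∀ g, ∀ u ∈ P, φ (g * u) = φ g := fun g u hu => by
    simp only [hφ, mul_inv_rev, act_mul]
    calc act g * act u * f * (act u⁻¹ * act g⁻¹)
        = act g * (act u * f * act u⁻¹) * act g⁻¹ := by simp only [mul_assoc]
      _ = act g * f * act g⁻¹ := by
        rw [← hfu u hu, mul_assoc f, ← act_mul, mul_inv_cancel, act_one, mul_one]
  set T : Module.End k S := ∑ q : G ⧸ P, φ q.out with hT
  have hTg : ∀ g : G, (act g : Module.End k S) * T = T * act g := by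
    intro g
    rw [hT, Finset.mul_sum, Finset.sum_mul]
    refine Fintype.sum_equiv (MulAction.toPerm g) _ _ fun q => ?_
    have hgq : g • q = QuotientGroup.mk (g * q.out) := by
      conv_lhs => rw [← QuotientGroup.out_eq' q]
      rfl
    show _ = φ (g • q).out * act g
    rw [hgq]
    obtain ⟨u, hu⟩ := QuotientGroup.mk_out_eq_mul P (g * q.out)
    rw [hu, hφr _ _ u.2]
    simp only [hφ, mul_inv_rev, act_mul, mul_assoc]
    rw [← act_mul g⁻¹ g, inv_mul_cancel, act_one, mul_one]
  let T' : Module.End (MonoidAlgebra k G) S :=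
    { toFun := T
      map_add' := map_add T
      map_smul' := fun z x => by
        simp only [RingHom.id_apply, smul_eq_sum_act z, map_sum, map_smul]
        refine Finset.sum_congr rfl fun h _ => ?_
        rw [← Module.End.mul_apply, ← hTg, Module.End.mul_apply] }
  obtain ⟨c, hc⟩ := (IsSimpleModule.algebraMap_end_bijective_of_isAlgClosed k (A := MonoidAlgebra k G)
    (V := S)).2 T'
  have hTv : ∀ x, T x = c • x := fun x => by
    have := congrArg (fun F : Module.End (MonoidAlgebra k G) S => F x) hc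
    exact this.symm
  -- values of the transfer on the invariants
  have hval : ∀ (ω : Subgroup.normalizer (P : Set G) →* kˣ) (v : S), IsEigen P ω v →
      ∃ y, T v = (∑ q ∈ normCosets P, if h : q.out ∈ Subgroup.normalizer (P : Set G) then
        (((ω₂ * ω⁻¹) ⟨q.out, h⟩ : kˣ) : k) else 0) • (ψ v • v₂) +
          (normP P : Module.End k S) y := by
    intro ω v hv
    obtain ⟨y, hy⟩ := exists_normP_eq_coset_sum (k := k) (S := S) hP (fun g => φ g v)
      (fun g u hu => by rw [hφr g u hu]) (fun u hu g => by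
        show φ (u * g) v = _
        simp only [hφ, mul_inv_rev, act_mul, Module.End.mul_apply]
        rw [hv.fixed hP (P.inv_mem hu)])
    refine ⟨y, ?_⟩
    rw [hT, LinearMap.sum_apply, hy, Finset.sum_smul]
    congr 1
    refine Finset.sum_congr rfl fun q hq => ?_
    have hq' := mem_normCosets.1 hq
    rw [dif_pos hq']
    show act q.out (f (act q.out⁻¹ v)) = _
    have h3 := hv ⟨q.out⁻¹, Subgroup.inv_mem _ hq'⟩
    have h4 := h₂ ⟨q.out, hq'⟩
    dsimp only at h3 h4
    rw [h3, map_smul, hker v (by rw [hD, LinearMap.sub_apply, hv.fixed hP u₀.2,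
      Module.End.one_apply, sub_self]), map_smul, map_smul, h4, smul_smul, smul_smul, smul_smul]
    congr 1
    rw [MonoidHom.mul_apply, Units.val_mul, MonoidHom.inv_apply, ← map_inv,
      show (⟨q.out, hq'⟩ : Subgroup.normalizer (P : Set G))⁻¹ =
        ⟨q.out⁻¹, Subgroup.inv_mem _ hq'⟩ from rfl]
    ring
  by_contra hne
  obtain ⟨y₂, hy₂⟩ := hval ω₂ v₂ h₂
  obtain ⟨y₁, hy₁⟩ := hval ω₁ v₁ h₁
  rw [hTv, show ω₂ * ω₂⁻¹ = 1 from MonoidHom.ext fun n => mul_inv_cancel (ω₂ n), hψ2, one_smul] at hy₂
  rw [hTv, sum_normCosets_char hP (χ := ω₂ * ω₁⁻¹) (fun h => hne (MonoidHom.ext fun n => (mul_inv_eq_one.1 (DFunLike.congr_fun h n)).symm)), zero_smul,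
    zero_add] at hy₁
  have hsum : (∑ q ∈ normCosets P, if h : q.out ∈ Subgroup.normalizer (P : Set G) then
      (((1 : Subgroup.normalizer (P : Set G) →* kˣ) ⟨q.out, h⟩ : kˣ) : k) else 0) =
      ((normCosets P).card : k) := by
    rw [Finset.sum_congr rfl (g := fun _ => (1 : k)) fun q hq => by
      rw [dif_pos (mem_normCosets.1 hq)]; simp, Finset.sum_const, nsmul_one]
  rw [hsum] at hy₂
  by_cases hc0 : c = 0
  · rw [hc0, zero_smul, eq_comm, add_eq_zero_iff_eq_neg] at hy₂
    refine n₂ ⟨((normCosets P).card : k)⁻¹ • (-y₂), ?_⟩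
    rw [map_smul, map_neg, ← hy₂, smul_smul, inv_mul_cancel₀ (natCast_card_normCosets_ne_zero hidx),
      one_smul]
  · refine n₁ ⟨c⁻¹ • y₁, ?_⟩
    rw [map_smul, ← hy₁, smul_smul, inv_mul_cancel₀ hc0, one_smul]

open Classical in
/-- A central idempotent of augmentation one fixes every simple module with an invariant whose type
is trivial on the centralizer of `P`. -/
theorem idem_smul_eq [IsAlgClosed k] [IsSimpleModule (MonoidAlgebra k G) S] [FiniteDimensional k S]
    {P : Subgroup G} [Fintype P] [Fintype G] (hP : Nat.card P = p) {z : MonoidAlgebra k G}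
    (hz : ∀ x g : G, z.coeff (x * g * x⁻¹) = z.coeff g) (hcomm : ∀ a, z * a = a * z)
    (hzz : z * z = z) (hsum : ∑ g : G, z.coeff g = 1)
    {ω : Subgroup.normalizer (P : Set G) →* kˣ}
    (hω : ∀ n : Subgroup.normalizer (P : Set G),
      (n : G) ∈ Subgroup.centralizer (P : Set G) → ω n = 1)
    {v : S} (hv : IsEigen P ω v) (hn : v ∉ LinearMap.range (normP P : Module.End k S)) (x : S) :
    z • x = x := by
  set C := Subgroup.centralizer (P : Set G)
  let T : Module.End (MonoidAlgebra k G) S :=
    { toFun := fun y => z • y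
      map_add' := smul_add z
      map_smul' := fun a y => by rw [RingHom.id_apply, ← mul_smul, hcomm, mul_smul] }
  obtain ⟨c, hc⟩ := (IsSimpleModule.algebraMap_end_bijective_of_isAlgClosed k (A := MonoidAlgebra k G)
    (V := S)).2 T
  have hc' : ∀ y : S, z • y = c • y := fun y => by
    have := congrArg (fun F : Module.End (MonoidAlgebra k G) S => F y) hc
    exact this.symm
  let act' : MulAction P G :=
    { smul := fun u g => (u : G) * g * (u : G)⁻¹
      one_smul := fun g => show ((1 : P) : G) * g * ((1 : P) : G)⁻¹ = g by simp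
      mul_smul := fun u w g => show ((u * w : P) : G) * g * ((u * w : P) : G)⁻¹ =
        (u : G) * ((w : G) * g * (w : G)⁻¹) * (u : G)⁻¹ by simp [mul_assoc] }
  letI := act'
  have hsm : ∀ (u : P) (g : G), u • g = (u : G) * g * (u : G)⁻¹ := fun _ _ => rfl
  have hmem : ∀ (u : P), ∀ g ∈ Finset.univ.filter (· ∉ C), u • g ∈ Finset.univ.filter (· ∉ C) := by
    intro u g hg
    simp only [Finset.mem_filter, Finset.mem_univ, true_and] at hg ⊢
    intro h
    apply hg
    refine Subgroup.mem_centralizer_iff.2 fun w hw => ?_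
    have hw' : (u : G) * w * (u : G)⁻¹ ∈ P := P.mul_mem (P.mul_mem u.2 hw) (P.inv_mem u.2)
    have := Subgroup.mem_centralizer_iff.1 h _ hw'
    rw [hsm] at this
    calc w * g = (u : G)⁻¹ * ((u : G) * w * (u : G)⁻¹ * ((u : G) * g * (u : G)⁻¹)) * u := by group
      _ = g * w := by rw [this]; group
  have hfree : ∀ (u : P), ∀ g ∈ Finset.univ.filter (· ∉ C), u • g = g → u = 1 := by
    intro u g hg h
    simp only [Finset.mem_filter, Finset.mem_univ, true_and] at hg
    by_contra hu
    apply hg
    have hP' : ∀ w : P, w ∈ Subgroup.zpowers u := fun w => mem_zpowers_of_prime_card hP hu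
    refine Subgroup.mem_centralizer_iff.2 fun w hw => ?_
    obtain ⟨i, hi⟩ := hP' ⟨w, hw⟩
    have hc : Commute (u : G) g := mul_inv_eq_iff_eq_mul.1 h
    have hwu : w = (u : G) ^ i := by
      have := congrArg Subtype.val hi
      simpa using this.symm
    rw [hwu]
    exact (hc.zpow_left i).eq
  obtain ⟨y, hy⟩ := exists_normP_eq_sum_of_free (k := k) (S := S)
    (Finset.univ.filter (· ∉ C)) hmem hfree
    (fun g => z.coeff g • (act g : Module.End k S) v) (fun u g _ => by
      rw [hsm, hz, map_smul, act_mul_apply, act_mul_apply, hv.fixed hP (P.inv_mem u.2)])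
  have h0 : ∑ g ∈ Finset.univ.filter (· ∉ C), z.coeff g = 0 := by
    have hpd : p ∣ Nat.card P := dvd_of_eq hP.symm
    rw [← Finset.sum_fiberwise_of_maps_to
      (g := (Quotient.mk'' : G → MulAction.orbitRel.Quotient P G))
      (fun x hx => Finset.mem_image_of_mem _ hx)]
    refine Finset.sum_eq_zero fun o ho => ?_
    obtain ⟨g₀, hg₀, rfl⟩ := Finset.mem_image.1 ho
    rw [← Finset.sum_bij (s := (Finset.univ : Finset P)) (f := fun _ => z.coeff g₀)
      (fun u _ => u • g₀) (fun u _ => Finset.mem_filter.2 ⟨hmem u g₀ hg₀,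
        Quotient.eq''.2 (MulAction.mem_orbit g₀ u)⟩)
      (fun u _ u' _ h => (inv_mul_eq_one.1 (hfree (u'⁻¹ * u) g₀ hg₀
        (by rw [mul_smul, h, inv_smul_smul]))).symm)
      (fun g hg => by
        obtain ⟨u, hu⟩ := MulAction.mem_orbit_iff.1
          (MulAction.orbitRel_apply.1 (Quotient.eq''.1 (Finset.mem_filter.1 hg).2))
        exact ⟨u, Finset.mem_univ _, hu⟩)
      (fun u _ => by rw [hsm, hz]), Finset.sum_const, Finset.card_univ, ← Nat.card_eq_fintype_card,
      hP, nsmul_eq_mul, CharP.cast_eq_zero, zero_mul]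
  have hzv : z • v = v + (normP P : Module.End k S) y := by
    rw [smul_eq_sum_act, ← Finset.sum_filter_add_sum_filter_not Finset.univ (· ∉ C), hy, add_comm]
    congr 1
    have h1 : ∑ g ∈ Finset.univ.filter (fun g => ¬ g ∉ C), z.coeff g = 1 := by
      rw [← hsum, ← Finset.sum_filter_add_sum_filter_not Finset.univ (· ∉ C), h0, zero_add]
    conv_rhs => rw [← one_smul k v, ← h1, Finset.sum_smul]
    refine Finset.sum_congr rfl fun g hg => ?_
    simp only [Finset.mem_filter, Finset.mem_univ, true_and, not_not] at hg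
    have := hv ⟨g, Subgroup.centralizer_le_normalizer _ hg⟩
    dsimp only at this
    rw [this, hω _ hg, Units.val_one, one_smul]
  have hcc : c * c = c := by
    have h1 : z • (z • v) = z • v := by rw [← mul_smul, hzz]
    rw [hc', hc', smul_smul] at h1
    have hv0 : v ≠ 0 := fun h => hn (h ▸ Submodule.zero_mem _)
    exact smul_left_injective k hv0 h1
  rcases eq_or_ne c 0 with h | h
  · rw [hc', h, zero_smul, eq_comm, add_eq_zero_iff_eq_neg] at hzv
    exact absurd ⟨-y, by rw [map_neg, ← hzv]⟩ hn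
  · rw [hc', mul_right_cancel₀ h (hcc.trans (one_mul c).symm), one_smul]

/-- Every type of invariant occurs in a simple subquotient of the group algebra. -/
theorem exists_simple [Fintype G] {P : Subgroup G} [Fintype P] (hP : Nat.card P = p)
    (hidx : ¬ p ∣ P.index) (ω : Subgroup.normalizer (P : Set G) →* kˣ) :
    ∃ (W : Submodule (MonoidAlgebra k G) (MonoidAlgebra k G)) (W' : Submodule (MonoidAlgebra k G) W),
      IsSimpleModule (MonoidAlgebra k G) (W ⧸ W') ∧
        ∃ v : W ⧸ W', IsEigen P ω v ∧ v ∉ LinearMap.range (normP P : Module.End k (W ⧸ W')) := by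
  classical
  haveI := Fintype.ofFinite (G ⧸ P)
  haveI : IsArtinianRing (MonoidAlgebra k G) := by
    haveI : Module.Finite k (MonoidAlgebra k G) :=
      Module.Finite.equiv (MonoidAlgebra.coeffLinearEquiv k : MonoidAlgebra k G ≃ₗ[k] (G →₀ k)).symm
    exact IsArtinianRing.of_finite k _
  haveI : IsNoetherianRing (MonoidAlgebra k G) := by
    haveI : Module.Finite k (MonoidAlgebra k G) :=
      Module.Finite.equiv (MonoidAlgebra.coeffLinearEquiv k : MonoidAlgebra k G ≃ₗ[k] (G →₀ k)).symm
    exact isNoetherian_of_tower k inferInstance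
  set A := MonoidAlgebra k G
  set v₀ : A := MonoidAlgebra.ofCoeff (Finsupp.equivFunOnFinite.symm fun g =>
    if h : g ∈ Subgroup.normalizer (P : Set G) then (((ω ⟨g, h⟩)⁻¹ : kˣ) : k) else 0) with hv₀
  have hcoeff : ∀ g, v₀.coeff g =
      if h : g ∈ Subgroup.normalizer (P : Set G) then (((ω ⟨g, h⟩)⁻¹ : kˣ) : k) else 0 :=
    fun g => by simp [hv₀]
  let L : Submodule A A := Submodule.span A {v₀}
  let Good : Submodule A A → Prop := fun W => W ≤ L ∧
    ∃ v : W, IsEigen P ω v ∧ v ∉ LinearMap.range (normP P : Module.End k W)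
  have hgood : Good L := by
    refine ⟨le_rfl, ⟨v₀, Submodule.mem_span_singleton_self v₀⟩, fun n => ?_, ?_⟩
    · refine Subtype.ext (MonoidAlgebra.ext (Finsupp.ext fun g => ?_))
      show ((MonoidAlgebra.single (n : G) (1 : k)) * v₀ : A).coeff g =
        (((ω n : kˣ) : k) • v₀ : A).coeff g
      rw [MonoidAlgebra.coeff_single_mul_apply, one_mul, MonoidAlgebra.coeff_smul_apply,
        smul_eq_mul, hcoeff, hcoeff]
      by_cases hg : g ∈ Subgroup.normalizer (P : Set G)
      · rw [dif_pos hg, dif_pos (Subgroup.mul_mem _ (Subgroup.inv_mem _ n.2) hg), ← Units.val_mul]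
        refine congrArg Units.val ?_
        rw [show (⟨(n : G)⁻¹ * g, Subgroup.mul_mem _ (Subgroup.inv_mem _ n.2) hg⟩ :
          Subgroup.normalizer (P : Set G)) = n⁻¹ * ⟨g, hg⟩ from rfl, map_mul, map_inv, mul_inv_rev,
          inv_inv, mul_comm]
      · rw [dif_neg hg, dif_neg (fun h => hg ?_), mul_zero]
        simpa using Subgroup.mul_mem _ n.2 h
    · rintro ⟨⟨y, hy⟩, hy'⟩
      obtain ⟨a, rfl⟩ := Submodule.mem_span_singleton.1 hy
      have h1 := congrArg (fun z : L => (z : A).coeff 1) hy'
      simp only [hcoeff, dif_pos (Subgroup.one_mem _)] at h1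
      rw [show (⟨1, Subgroup.one_mem _⟩ : Subgroup.normalizer (P : Set G)) = 1 from rfl, map_one ω,
        inv_one, Units.val_one, normP_apply, AddSubmonoidClass.coe_finsetSum,
        MonoidAlgebra.coeff_sum, Finsupp.finsetSum_apply] at h1
      have h2 : ∀ u : P, (((act (u : G) : Module.End k L) ⟨a • v₀, hy⟩ : L) : A).coeff 1 =
          (a * v₀).coeff 1 := by
        intro u
        show ((MonoidAlgebra.single (u : G) (1 : k)) * (a * v₀) : A).coeff 1 = _
        rw [MonoidAlgebra.coeff_single_mul_apply, one_mul, mul_one]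
        rw [Blocks.coeff_mul_eq_sum a v₀, Blocks.coeff_mul_eq_sum a v₀]; simp only [hcoeff]
        refine Finset.sum_congr rfl fun x _ => congrArg _ ?_
        have hu : ((u : G)⁻¹) ∈ Subgroup.normalizer (P : Set G) :=
          Subgroup.inv_mem _ (Subgroup.le_normalizer u.2)
        by_cases hx : x⁻¹ * 1 ∈ Subgroup.normalizer (P : Set G)
        · rw [dif_pos hx, dif_pos (by simpa using Subgroup.mul_mem _ hx hu)]
          refine congrArg Units.val (congrArg Inv.inv ?_)
          rw [show (⟨x⁻¹ * (u : G)⁻¹, by simpa using Subgroup.mul_mem _ hx hu⟩ :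
            Subgroup.normalizer (P : Set G)) = ⟨x⁻¹ * 1, hx⟩ * ⟨(u : G)⁻¹, hu⟩ from
              Subtype.ext (by simp), map_mul, omega_eq_one hP ω ⟨(u : G)⁻¹, hu⟩ (P.inv_mem u.2),
            mul_one]
        · rw [dif_neg hx, dif_neg fun h => hx ?_]
          simpa using Subgroup.mul_mem _ h (Subgroup.le_normalizer u.2)
      rw [Finset.sum_congr rfl fun u _ => h2 u, Finset.sum_const, Finset.card_univ,
        ← Nat.card_eq_fintype_card, hP, nsmul_eq_mul, CharP.cast_eq_zero, zero_mul] at h1
      exact zero_ne_one h1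
  obtain ⟨W, hWmem, hmin⟩ := IsArtinian.set_has_minimal {W : Submodule A A | Good W} ⟨L, hgood⟩
  obtain ⟨hWL, v, hv, hvn⟩ := hWmem
  haveI : Nontrivial W := nontrivial_of_ne v 0 fun h => hvn (h ▸ Submodule.zero_mem _)
  haveI : IsNoetherian A W := isNoetherian_submodule' W
  haveI : IsCoatomic (Submodule A W) := isCoatomic_of_orderTop_gt_wellFounded wellFounded_gt
  obtain ⟨W', hW', -⟩ := (IsCoatomic.eq_top_or_exists_le_coatom (⊥ : Submodule A W)).resolve_left
    bot_ne_top
  refine ⟨W, W', isSimpleModule_iff_isCoatom.2 hW', W'.mkQ v, fun n => ?_, ?_⟩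
  · show (MonoidAlgebra.single (n : G) (1 : k) : A) • W'.mkQ v = _
    rw [← map_smul W'.mkQ, show (MonoidAlgebra.single (n : G) (1 : k) : A) • v =
      ((ω n : kˣ) : k) • v from hv n]
    rfl
  rintro ⟨x', hx'⟩
  obtain ⟨x, rfl⟩ := W'.mkQ_surjective x'
  set w : W := v - (normP P : Module.End k W) x with hw
  have hwW' : w ∈ W' := by
    refine (Submodule.Quotient.eq W').1 ?_
    refine Eq.trans hx'.symm ?_
    rw [normP_apply, normP_apply]
    simp only [← Submodule.mkQ_apply, map_sum]
    rfl
  have hwfix : ∀ u ∈ P, (act u : Module.End k W) w = w := fun u hu => by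
    rw [hw, map_sub, hv.fixed hP hu, act_normP P hu]
  -- project to the eigenspace of `ω`
  set f : G → k := fun g => if h : g ∈ Subgroup.normalizer (P : Set G) then
    (((ω ⟨g, h⟩)⁻¹ : kˣ) : k) else 0 with hf
  set E : Module.End k W := ∑ q ∈ normCosets P, f q.out • (act q.out : Module.End k W) with hE
  have hinv : ∀ g ∈ Subgroup.normalizer (P : Set G), ∀ u ∈ P,
      f (g * u) • (act (g * u) : Module.End k W) w = f g • (act g : Module.End k W) w := by
    intro g hg u hu
    have hu' : u ∈ Subgroup.normalizer (P : Set G) := Subgroup.le_normalizer hu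
    rw [act_mul_apply, hwfix u hu]
    simp only [hf, dif_pos hg, dif_pos (Subgroup.mul_mem _ hg hu')]
    rw [show (⟨g * u, Subgroup.mul_mem _ hg hu'⟩ : Subgroup.normalizer (P : Set G)) =
      ⟨g, hg⟩ * ⟨u, hu'⟩ from rfl, map_mul, omega_eq_one hP ω ⟨u, hu'⟩ hu, mul_one]
  have hEe : IsEigen P ω (E w) := by
    intro n
    have h := sum_normCosets_translate (fun g => f g • (act g : Module.End k W) w) hinv n.2
    simp only [hE, LinearMap.sum_apply, LinearMap.smul_apply, map_sum, map_smul]
    conv_rhs => rw [← h, Finset.smul_sum]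
    refine Finset.sum_congr rfl fun q hq => ?_
    have hq' := mem_normCosets.1 hq
    rw [smul_smul, act_mul_apply]
    congr 1
    simp only [hf, dif_pos hq', dif_pos (Subgroup.mul_mem _ n.2 hq')]
    rw [← Units.val_mul]
    refine congrArg Units.val ?_
    rw [show (⟨(n : G) * q.out, Subgroup.mul_mem _ n.2 hq'⟩ : Subgroup.normalizer (P : Set G)) =
      n * ⟨q.out, hq'⟩ from rfl, map_mul, mul_inv_rev, mul_left_comm, mul_inv_cancel, mul_one]
  have hEv : E v = ((normCosets P).card : k) • v := by
    rw [hE, LinearMap.sum_apply,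
      show ((normCosets P).card : k) = ∑ _q ∈ normCosets P, (1 : k) by simp, Finset.sum_smul]
    refine Finset.sum_congr rfl fun q hq => ?_
    have hq' := mem_normCosets.1 hq
    have := hv ⟨q.out, hq'⟩
    dsimp only at this
    rw [LinearMap.smul_apply, this, smul_smul]
    simp [hf, dif_pos hq']
  have hEn : ∀ y, E ((normP P : Module.End k W) y) = (normP P : Module.End k W) (E y) := fun y => by
    simp only [hE, LinearMap.sum_apply, LinearMap.smul_apply, map_sum, map_smul]
    exact Finset.sum_congr rfl fun q hq => by rw [normP_comm P (mem_normCosets.1 hq)]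
  have hEW : E w ∈ W' := by
    rw [hE, LinearMap.sum_apply]
    exact W'.sum_mem fun q _ => by
      rw [LinearMap.smul_apply, act_apply]
      exact W'.smul_of_tower_mem _ (W'.smul_mem _ hwW')
  set Wn : Submodule A A := W'.map W.subtype with hWn
  have hlt : Wn < W := lt_of_le_of_ne (Submodule.map_subtype_le W W') fun h => hW'.1 (by
    rw [eq_top_iff]
    intro y _
    have hy : (y : A) ∈ Wn := by rw [h]; exact y.2
    obtain ⟨z, hz, hzy⟩ := Submodule.mem_map.1 hy
    rwa [← Subtype.ext (a1 := z) (a2 := y) hzy])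
  refine hmin Wn ⟨hlt.le.trans hWL, ⟨(E w : W), Submodule.mem_map_of_mem hEW⟩, fun n => ?_, ?_⟩ hlt
  · exact Subtype.ext (congrArg (fun z : W => (z : A)) (hEe n))
  rintro ⟨⟨y, hy⟩, hy'⟩
  obtain ⟨y₁, -, rfl⟩ := Submodule.mem_map.1 hy
  have hy₂ : (normP P : Module.End k W) y₁ = E w := Subtype.ext (by
    have := congrArg (fun z : Wn => (z : A)) hy'
    simp only [normP_apply, AddSubmonoidClass.coe_finsetSum] at this ⊢
    exact this)
  refine hvn ⟨((normCosets P).card : k)⁻¹ • (y₁ + E x), ?_⟩
  rw [map_smul, map_add, hy₂, ← hEn, ← map_add, hw, sub_add_cancel, hEv, smul_smul,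
    inv_mul_cancel₀ (natCast_card_normCosets_ne_zero hidx), one_smul]

end CfsgLib.BlocksCyclic
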