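import Mathlib

/-!
# Integer vectors whose Gram matrix is `e J + 1`

At least `e + t` nonzero integer vectors in dimension `t` with column products `e + δ` are
`e + t` in number, and each is `± (1, …, 1)` or a signed unit vector.
-/

set_option autoImplicit false
set_option linter.style.haveILetI false

namespace CfsgLib.BlocksCyclic

variable {ι Q : Type*} [Fintype Q]

/-- A nonconstant integer vector has a large total of squared differences. -/
theorem two_mul_le_sum_sq_sub (c : Q → ℤ) {a b : Q} (hab : c a ≠ c b) :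
    2 * ((Fintype.card Q : ℤ) - 1) ≤ ∑ i, ∑ j, (c i - c j) ^ 2 := by
  classical
  set A := Finset.univ.filter fun i => c i = c a with hA
  have h1 : ∀ i j, (if i ∈ A then (if j ∈ A then (0 : ℤ) else 1) else if j ∈ A then 1 else 0) ≤
      (c i - c j) ^ 2 := by
    intro i j
    have hsq : c i ≠ c j → 1 ≤ (c i - c j) ^ 2 := fun h => by
      have := sq_pos_iff.2 (sub_ne_zero.2 h); omega
    simp only [hA, Finset.mem_filter, Finset.mem_univ, true_and]
    split_ifs with hi hj hj
    · exact sq_nonneg _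
    · exact hsq fun h => hj (h ▸ hi)
    · exact hsq fun h => hi (h.trans hj)
    · exact sq_nonneg _
  have h2 := Finset.sum_le_sum fun i (_ : i ∈ Finset.univ) =>
    Finset.sum_le_sum fun j (_ : j ∈ Finset.univ) => h1 i j
  refine le_trans ?_ h2
  have h3 : ∀ i, (∑ j, if i ∈ A then (if j ∈ A then (0 : ℤ) else 1) else if j ∈ A then 1 else 0) =
      if i ∈ A then (Aᶜ.card : ℤ) else A.card := by
    intro i
    by_cases hi : i ∈ A
    · simp only [if_pos hi]
      rw [Finset.sum_ite, Finset.sum_const_zero, zero_add, Finset.sum_const, nsmul_one,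
        Finset.filter_notMem_eq_sdiff, ← Finset.compl_eq_univ_sdiff]
    · simp only [if_neg hi]
      rw [Finset.sum_boole, Finset.filter_univ_mem]
  rw [Finset.sum_congr rfl fun i _ => h3 i, Finset.sum_ite, Finset.filter_univ_mem,
    Finset.filter_notMem_eq_sdiff, ← Finset.compl_eq_univ_sdiff, Finset.sum_const, Finset.sum_const,
    nsmul_eq_mul, nsmul_eq_mul]
  have h4 : (A.card : ℤ) + Aᶜ.card = Fintype.card Q := by
    exact_mod_cast A.card_add_card_compl
  have h5 : (1 : ℤ) ≤ A.card := by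
    exact_mod_cast Finset.card_pos.2 ⟨a, by simp [hA]⟩
  have h6 : (1 : ℤ) ≤ Aᶜ.card := by
    exact_mod_cast Finset.card_pos.2 ⟨b, by simp [hA, Ne.symm hab]⟩
  nlinarith [mul_nonneg (sub_nonneg.2 h5) (sub_nonneg.2 h6)]

open Classical in
/-- The structure of integer vectors with Gram matrix `e J + 1`. -/
theorem gram_structure (e : ℕ) (s : Finset ι) (c : ι → Q → ℤ) [DecidableEq Q]
    (hgram : ∀ i j, ∑ x ∈ s, c x i * c x j = (e : ℤ) + if i = j then 1 else 0)
    (hne : ∀ x ∈ s, ∃ i, c x i ≠ 0) (hcard : e + Fintype.card Q ≤ s.card) :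
    s.card = e + Fintype.card Q ∧ ∀ x ∈ s,
      ((∑ i, c x i) = (Fintype.card Q : ℤ) ∨ (∑ i, c x i) = -(Fintype.card Q : ℤ)) ∨
        ((∑ i, c x i) = 1 ∨ (∑ i, c x i) = -1) := by
  rcases s.eq_empty_or_nonempty with rfl | ⟨x₀, hx₀⟩
  · exact ⟨le_antisymm (Nat.zero_le _) hcard, by simp⟩
  obtain ⟨i₀, -⟩ := hne x₀ hx₀
  set t : ℤ := ((Fintype.card Q : ℕ) : ℤ) with ht
  have ht1 : 1 ≤ t := by rw [ht]; exact_mod_cast Fintype.card_pos_iff.2 ⟨i₀⟩
  let P : ι → Prop := fun x => ∃ i j, c x i ≠ c x j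
  have hD : ∀ x ∈ s.filter P, 2 * (t - 1) ≤ ∑ i, ∑ j, (c x i - c x j) ^ 2 := fun x hx => by
    obtain ⟨a, b, hab⟩ := (Finset.mem_filter.1 hx).2
    exact two_mul_le_sum_sq_sub (c x) hab
  have hDsum : ∑ x ∈ s, ∑ i, ∑ j, (c x i - c x j) ^ 2 = 2 * (t * (t - 1)) := by
    rw [Finset.sum_comm]
    have : ∀ i, ∑ x ∈ s, ∑ j, (c x i - c x j) ^ 2 = 2 * (t - 1) := by
      intro i
      rw [Finset.sum_comm]
      have : ∀ j, ∑ x ∈ s, (c x i - c x j) ^ 2 = 2 - 2 * if i = j then 1 else 0 := by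
        intro j
        have hexp : ∀ x, (c x i - c x j) ^ 2 =
            c x i * c x i + c x j * c x j - 2 * (c x i * c x j) := fun x => by ring
        simp only [hexp, Finset.sum_sub_distrib, Finset.sum_add_distrib, ← Finset.mul_sum, hgram]
        split_ifs <;> ring
      rw [Finset.sum_congr rfl fun j _ => this j, Finset.sum_sub_distrib, ← Finset.mul_sum,
        Finset.sum_ite_eq, Finset.sum_const, Finset.card_univ, nsmul_eq_mul, if_pos (Finset.mem_univ i)]
      rw [ht]; ring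
    rw [Finset.sum_congr rfl fun i _ => this i, Finset.sum_const, Finset.card_univ, nsmul_eq_mul]
    rw [ht]; ring
  have hn1 : 2 * (t - 1) * ((s.filter P).card : ℤ) ≤ 2 * (t * (t - 1)) := by
    rw [← hDsum]
    calc 2 * (t - 1) * ((s.filter P).card : ℤ)
        = ∑ x ∈ s.filter P, 2 * (t - 1) := by
          rw [Finset.sum_const, nsmul_eq_mul]; ring
      _ ≤ ∑ x ∈ s.filter P, ∑ i, ∑ j, (c x i - c x j) ^ 2 := Finset.sum_le_sum hD
      _ ≤ _ := Finset.sum_le_sum_of_subset_of_nonneg (Finset.filter_subset _ _)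
          fun x _ _ => Finset.sum_nonneg fun i _ => Finset.sum_nonneg fun j _ => sq_nonneg _
  -- squared norms
  have hN : ∀ x ∈ s, (if P x then 1 else t) ≤ ∑ i, c x i ^ 2 := by
    intro x hx
    obtain ⟨i, hi⟩ := hne x hx
    split_ifs with h
    · calc (1 : ℤ) ≤ c x i ^ 2 := by have := sq_pos_iff.2 hi; omega
        _ ≤ _ := Finset.single_le_sum (fun j _ => sq_nonneg (c x j)) (Finset.mem_univ i)
    · calc t = ∑ _j : Q, (1 : ℤ) := by simp [ht]
        _ ≤ _ := Finset.sum_le_sum fun j _ => by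
          have hj : c x j = c x i := by
            by_contra hh; exact h ⟨j, i, hh⟩
          rw [hj]; have := sq_pos_iff.2 hi; omega
  have hNsum : ∑ x ∈ s, ∑ i, c x i ^ 2 = t * ((e : ℤ) + 1) := by
    rw [Finset.sum_comm, Finset.sum_congr rfl fun i _ => by
      rw [Finset.sum_congr rfl fun x _ => sq (c x i), hgram i i, if_pos rfl],
      Finset.sum_const, Finset.card_univ, nsmul_eq_mul]
  set n1 : ℤ := ((s.filter P).card : ℤ)
  set n0 : ℤ := ((s.filter fun x => ¬ P x).card : ℤ)
  have hk : n1 + n0 = (s.card : ℤ) := by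
    simp only [n1, n0]
    exact_mod_cast Finset.card_filter_add_card_filter_not (s := s) P
  have hlow : n1 + t * n0 ≤ t * ((e : ℤ) + 1) := by
    rw [← hNsum]
    refine le_trans (le_of_eq ?_) (Finset.sum_le_sum hN)
    rw [Finset.sum_ite, Finset.sum_const, Finset.sum_const, nsmul_eq_mul, nsmul_eq_mul]
    ring
  have hc : (e : ℤ) + t ≤ n1 + n0 := by rw [hk, ht]; exact_mod_cast hcard
  have h0 : (0 : ℤ) ≤ n1 := Nat.cast_nonneg _
  -- all inequalities are equalities
  have heq : n1 + n0 = (e : ℤ) + t ∧ n1 + t * n0 = t * ((e : ℤ) + 1) := by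
    rcases eq_or_lt_of_le ht1 with h | h
    · rw [← h] at hlow hc ⊢
      constructor <;> linarith
    · have h1 : n1 ≤ t := by nlinarith
      have h2 : n0 ≤ (e : ℤ) := by nlinarith
      constructor <;> nlinarith
  have hcard' : s.card = e + Fintype.card Q := by
    have : (s.card : ℤ) = (e : ℤ) + t := by rw [← hk]; exact heq.1
    rw [ht] at this
    exact_mod_cast this
  refine ⟨hcard', ?_⟩
  have hall : ∀ x ∈ s, (if P x then 1 else t) = ∑ i, c x i ^ 2 := by
    refine (Finset.sum_eq_sum_iff_of_le hN).1 ?_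
    rw [hNsum, ← heq.2, Finset.sum_ite, Finset.sum_const, Finset.sum_const, nsmul_eq_mul,
      nsmul_eq_mul]
    ring
  intro x hx
  obtain ⟨i, hi⟩ := hne x hx
  have hsq := hall x hx
  by_cases h : P x
  · right
    rw [if_pos h, Fintype.sum_eq_add_sum_compl i] at hsq
    have h1 : 1 ≤ c x i ^ 2 := by have := sq_pos_iff.2 hi; omega
    have h2 : 0 ≤ ∑ j ∈ ({i} : Finset Q)ᶜ, c x j ^ 2 := Finset.sum_nonneg fun j _ => sq_nonneg _
    have h3 : ∑ j ∈ ({i} : Finset Q)ᶜ, c x j ^ 2 = 0 := by linarith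
    rw [Fintype.sum_eq_add_sum_compl i, Finset.sum_eq_zero fun j hj =>
      sq_eq_zero_iff.1 ((Finset.sum_eq_zero_iff_of_nonneg fun j _ => sq_nonneg (c x j)).1 h3 j hj),
      add_zero]
    exact sq_eq_one_iff.1 (by linarith)
  · left
    rw [if_neg h] at hsq
    have hj : ∀ j, c x j = c x i := fun j => by
      by_contra hh; exact h ⟨j, i, hh⟩
    simp only [hj, Finset.sum_const, Finset.card_univ, nsmul_eq_mul] at hsq ⊢
    rw [← ht] at hsq ⊢
    have : c x i ^ 2 = 1 := by
      have h' : t * c x i ^ 2 = t * 1 := by rw [mul_one]; exact hsq.symm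
      exact mul_left_cancel₀ (by linarith) h'
    rcases sq_eq_one_iff.1 this with h' | h' <;> rw [h'] <;> simp

end CfsgLib.BlocksCyclic
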