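import Cfsg.Agent.BlocksCyclic.Invariant
import Mathlib.LinearAlgebra.Trace

/-!
# Traces of simple modules without homomorphisms between them are independent
-/

set_option autoImplicit false
set_option linter.style.haveILetI false
set_option linter.unusedSectionVars false

namespace CfsgLib.BlocksCyclic

universe u v w

variable {k : Type v} [Field k] [IsAlgClosed k] {A : Type u} [Ring A] [Algebra k A]
  {J : Type*} [Fintype J] [DecidableEq J] (S : J → Type w) [∀ j, AddCommGroup (S j)]
  [∀ j, Module k (S j)] [∀ j, Module A (S j)] [∀ j, IsScalarTower k A (S j)]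
  [∀ j, FiniteDimensional k (S j)] [∀ j, IsSimpleModule A (S j)]

/-- Dual elements for the traces. -/
theorem exists_trace_dual (hne : ∀ i j, i ≠ j → ∀ h : S i →ₗ[A] S j, h = 0) (j : J) :
    ∃ a : A, ∀ i, LinearMap.trace k (S i) (Algebra.lsmul k k (S i) a) = if i = j then 1 else 0 := by
  classical
  haveI : Nontrivial (S j) := IsSimpleModule.nontrivial A (S j)
  obtain ⟨v, hv⟩ := exists_ne (0 : S j)
  obtain ⟨ψ₀, hψ₀⟩ := Module.Projective.exists_dual_ne_zero k hv
  let E : Module.End k (S j) := (((ψ₀ v)⁻¹ • ψ₀) : Module.Dual k (S j)).smulRight v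
  have hE : LinearMap.trace k (S j) E = 1 := by
    rw [LinearMap.trace_smulRight, LinearMap.smul_apply, smul_eq_mul, inv_mul_cancel₀ hψ₀]
  have hcomp : ∀ φ : Module.End A (∀ i, S i), ∀ i, ∃ c : k, ∀ x : ∀ i, S i, φ x i = c • x i := by
    intro φ i
    obtain ⟨c, hc⟩ := (IsSimpleModule.algebraMap_end_bijective_of_isAlgClosed k (A := A)
      (V := S i)).2 ((LinearMap.proj i).comp (φ.comp (LinearMap.single A S i)))
    refine ⟨c, fun x => ?_⟩
    have h1 : ∀ l, φ (Pi.single l (x l)) i = if l = i then c • x i else 0 := by
      intro l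
      by_cases hl : l = i
      · subst hl
        rw [if_pos rfl]
        have := congrArg (fun F : Module.End A (S l) => F (x l)) hc
        exact this.symm
      · rw [if_neg hl]
        have := congrArg (fun F : S l →ₗ[A] S i => F (x l))
          (hne l i hl ((LinearMap.proj i).comp (φ.comp (LinearMap.single A S l))))
        exact this
    conv_lhs => rw [← Finset.univ_sum_single x]
    rw [map_sum, Finset.sum_apply, Finset.sum_congr rfl fun l _ => h1 l, Finset.sum_ite_eq',
      if_pos (Finset.mem_univ i)]
  let F : Module.End (Module.End A (∀ i, S i)) (∀ i, S i) :=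
    { toFun := fun x => Pi.single j (E (x j))
      map_add' := fun x y => by rw [Pi.add_apply, map_add, Pi.single_add]
      map_smul' := fun φ x => by
        obtain ⟨c, hc⟩ := hcomp φ j
        rw [RingHom.id_apply, Module.End.smul_def, Module.End.smul_def, hc, map_smul]
        funext i
        obtain ⟨c', hc'⟩ := hcomp φ i
        rw [hc']
        by_cases hi : i = j
        · subst hi
          simp only [Pi.single_eq_same]
          have h2 := (hc' (Pi.single i (E (x i)))).symm.trans (hc (Pi.single i (E (x i))))
          simp only [Pi.single_eq_same] at h2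
          exact h2.symm
        · simp [Pi.single_eq_of_ne hi] }
  haveI : IsSemisimpleModule A (∀ i, S i) := inferInstance
  let b := fun i => Module.finBasis k (S i)
  let emb : (il : (i : J) × Fin (Module.finrank k (S i))) → (∀ i, S i) :=
    fun il => Pi.single il.1 (b il.1 il.2)
  obtain ⟨r, hr⟩ := jacobson_density F (Finset.univ.image emb)
  refine ⟨r, fun i => ?_⟩
  have key : ∀ l, r • (Pi.single i (b i l) : ∀ i, S i) = Pi.single j (E ((Pi.single i (b i l) : ∀ i, S i) j)) :=
    fun l => (hr _ (Finset.mem_image.2 ⟨⟨i, l⟩, by simp, rfl⟩)).symm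
  by_cases hi : i = j
  · subst hi
    rw [if_pos rfl, ← hE]
    congr 1
    refine (b i).ext fun l => ?_
    have := congrFun (key l) i
    simpa using this
  · rw [if_neg hi]
    have : (Algebra.lsmul k k (S i) r : Module.End k (S i)) = 0 := by
      refine (b i).ext fun l => ?_
      have := congrFun (key l) i
      simpa [Pi.single_eq_of_ne hi] using this
    rw [this, map_zero]

end CfsgLib.BlocksCyclic
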