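import Cfsg.Agent.BlocksCyclic.Invariant
import Cfsg.Agent.BlocksCyclic.Traces
import Cfsg.Agent.Blocks.RegularSupport
import Cfsg.Agent.Blocks.Height
import Cfsg.Agent.PrincipalBlock.Basic
import Cfsg.Agent.BlockPairs.ResField
import Mathlib.LinearAlgebra.Matrix.NonsingularInverse

/-!
# Regular parts of the principal block when the Sylow subgroup has order `p`

For every character of `N(P)/C(P)` the principal block yields a function on the p-regular elements
reducing to the trace of a simple module; distinct characters give independent functions.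
-/

set_option autoImplicit false
set_option linter.style.haveILetI false
set_option linter.unusedSectionVars false

namespace CfsgLib.BlocksCyclic

open Cfsg CfsgLib.Blocks CfsgLib.PrincipalBlock
open scoped ComplexConjugate

universe u

variable {G : Type u} [Group G] [Fintype G] {p : ℕ} [Fact p.Prime] {M : Ideal AlgInt} [M.IsPrime]

theorem act_eq_of_pow {k : Type*} [Field k] {S : Type*} [AddCommGroup S] [Module k S]
    [Module (MonoidAlgebra k G) S] [IsScalarTower k (MonoidAlgebra k G) S] (g : G) (i : ℕ) :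
    (act (g ^ i) : Module.End k S) = (act g) ^ i := by
  induction i with
  | zero => rw [pow_zero, pow_zero, act_one]
  | succ i ih => rw [pow_succ, pow_succ, act_mul, ih]

/-- The trace only depends on the regular part, for an element whose singular part has order
dividing `p`. -/
theorem trace_act_mul_of_pow_eq_one {k : Type*} [Field k] [CharP k p] {S : Type*} [AddCommGroup S]
    [Module k S] [Module (MonoidAlgebra k G) S] [IsScalarTower k (MonoidAlgebra k G) S]
    [FiniteDimensional k S] {z u : G} (hc : Commute z u) (hu : u ^ p = 1) :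
    LinearMap.trace k S (act (z * u)) = LinearMap.trace k S (act z) := by
  set a : Module.End k S := act z
  set b : Module.End k S := act u
  have hab : Commute a b := by
    show a * b = b * a
    rw [← act_mul, ← act_mul, hc.eq]
  have hbp : b ^ p = 1 := by rw [← act_eq_of_pow, hu, act_one]
  have hn : IsNilpotent (b - 1) := by
    refine ⟨p, ?_⟩
    rcases subsingleton_or_nontrivial S with h | h
    · exact Subsingleton.elim _ _
    haveI : CharP (Module.End k S) p :=
      charP_of_injective_algebraMap (algebraMap k (Module.End k S)).injective p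
    rw [sub_pow_char_of_commute p (Commute.one_right b), hbp, one_pow, sub_self]
  have h2 := (hab.sub_right (Commute.one_right a)).isNilpotent_mul_left hn
  have h0 := (LinearMap.isNilpotent_trace_of_isNilpotent h2).eq_zero
  rw [mul_sub, mul_one, map_sub, sub_eq_zero] at h0
  rw [act_mul]
  exact h0

/-- The exponent of the regular part in a group of order `p * m`. -/
theorem exists_regular_exponent {m : ℕ} (hG : Nat.card G = p * m) (hm : ¬ p ∣ m) :
    ∃ α β : ℕ, ∀ g : G, ¬ p ∣ orderOf (g ^ α) ∧ (¬ p ∣ orderOf g → g ^ α = g) ∧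
      g = g ^ α * g ^ β ∧ (g ^ β) ^ p = 1 := by
  have hcop : Nat.Coprime p m := (Fact.out : p.Prime).coprime_iff_not_dvd.2 hm
  obtain ⟨α, hα1, hα2⟩ := Nat.chineseRemainder hcop 0 1
  obtain ⟨β, hβ1, hβ2⟩ := Nat.chineseRemainder hcop 1 0
  obtain ⟨a, rfl⟩ : p ∣ α := Nat.modEq_zero_iff_dvd.1 hα1
  obtain ⟨b, rfl⟩ : m ∣ β := Nat.modEq_zero_iff_dvd.1 hβ2
  refine ⟨p * a, m * b, fun g => ⟨?_, ?_, ?_, ?_⟩⟩
  · intro h
    refine hm (h.trans (orderOf_dvd_of_pow_eq_one ?_))
    rw [← pow_mul, show p * a * m = Nat.card G * a by rw [hG]; ring, pow_mul, pow_card_eq_one',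
      one_pow]
  · intro hg
    conv_rhs => rw [← pow_one g]
    refine pow_eq_pow_iff_modEq.2 (hα2.of_dvd ?_)
    refine ((Fact.out : p.Prime).coprime_iff_not_dvd.2 hg).symm.dvd_of_dvd_mul_left ?_
    rw [← hG]
    exact orderOf_dvd_natCard g
  · rw [← pow_add]
    conv_lhs => rw [← pow_one g]
    refine pow_eq_pow_iff_modEq.2 (Nat.ModEq.of_dvd (hG ▸ orderOf_dvd_natCard g) ?_)
    refine (Nat.modEq_and_modEq_iff_modEq_mul hcop).1 ⟨?_, ?_⟩
    · simpa using (hα1.add hβ1).symm
    · simpa using (hα2.add hβ2).symm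
  · rw [← pow_mul, show m * b * p = Nat.card G * b by rw [hG]; ring, pow_mul, pow_card_eq_one',
      one_pow]

/-- A character and its value at the regular part reduce to the same residue. -/
theorem red_char_pow {α β : ℕ} (hM : Cfsg.IsPModular p M) (χ : IrrCharacter G) {g : G}
    (hg : g = g ^ α * g ^ β) (hβ : (g ^ β) ^ p = 1) :
    red M ⟨(χ : G → ℂ) g, memLocalRing_char χ g⟩ =
      red M ⟨(χ : G → ℂ) (g ^ α), memLocalRing_char χ _⟩ := by
  obtain ⟨d, ρ, hρ, hρc⟩ := χ.2
  obtain ⟨μ, hμ, hj, -⟩ := Characters.exists_eigenvalues ρ g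
  have hμl : ∀ i, Cfsg.MemLocalRing M (μ i) := fun i => memLocalRing_of_isIntegral
    (IsIntegral.of_pow (orderOf_pos g) (by rw [hμ i]; exact isIntegral_one))
  set ν : Fin (Module.finrank ℂ (Fin d → ℂ)) → localRing M := fun i => ⟨μ i, hμl i⟩
  have hsum : ∀ j : ℕ, (⟨(χ : G → ℂ) (g ^ j), memLocalRing_char χ _⟩ : localRing M) =
      ∑ i, ν i ^ j := fun j => Subtype.ext (by
    rw [AddSubmonoidClass.coe_finsetSum]
    show (χ : G → ℂ) (g ^ j) = _
    rw [← hρc]
    exact (hj j).trans (Finset.sum_congr rfl fun i _ => by simp [ν]))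
  have h1 := hsum 1
  simp only [pow_one] at h1
  rw [h1, hsum α, map_sum, map_sum]
  refine Finset.sum_congr rfl fun i _ => ?_
  have hd : orderOf g ∣ β * p := orderOf_dvd_of_pow_eq_one (by rw [pow_mul]; exact hβ)
  have hν : (ν i ^ β) ^ p ^ 1 = 1 := by
    rw [pow_one, ← pow_mul]
    obtain ⟨c, hc⟩ := hd
    refine Subtype.ext ?_
    rw [SubmonoidClass.coe_pow, OneMemClass.coe_one, hc, pow_mul]
    show (μ i ^ orderOf g) ^ c = 1
    rw [hμ i, one_pow]
  have hone := red_eq_one_of_pow_eq_one hM hν
  have hαβ : orderOf g ∣ α + β - 1 ∧ 1 ≤ α + β ∨ g = 1 := by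
    by_cases h : g = 1
    · exact Or.inr h
    · left
      have he : g ^ (α + β) = g ^ 1 := by rw [pow_add, ← hg, pow_one]
      have h0 : 1 ≤ α + β := by
        by_contra h0
        rw [show α + β = 0 by omega, pow_zero, pow_one] at he
        exact h he.symm
      exact ⟨(Nat.modEq_iff_dvd' h0).1 (pow_eq_pow_iff_modEq.1 he).symm, h0⟩
  have hνe : ν i = ν i ^ α * ν i ^ β := by
    refine Subtype.ext ?_
    simp only [Subring.coe_mul, SubmonoidClass.coe_pow, ν, ← pow_add]
    rcases hαβ with ⟨⟨c, hc⟩, h0⟩ | h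
    · rw [show α + β = orderOf g * c + 1 by omega, pow_succ, pow_mul, hμ i, one_pow, one_mul]
    · have := hμ i
      rw [h, orderOf_one, pow_one] at this
      rw [this, one_pow]
  conv_lhs => rw [hνe, map_mul, hone, mul_one]

open Classical in
/-- Independent functions on the regular elements from the principal block. -/
theorem exists_regular_functions (hM : Cfsg.IsPModular p M) (P : Sylow p G)
    (hP : Nat.card (P : Subgroup G) = p) {J : Type} [Fintype J] [DecidableEq J]
    (ω : J → (Subgroup.normalizer ((P : Subgroup G) : Set G) →* (Res M)ˣ))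
    (hω : Function.Injective ω)
    (hωC : ∀ j, ∀ n : Subgroup.normalizer ((P : Subgroup G) : Set G),
      (n : G) ∈ Subgroup.centralizer ((P : Subgroup G) : Set G) → ω j n = 1) :
    ∃ b : J → IrrCharacter G → ℂ, ∀ l : J → ℂ,
      (∀ g : G, ¬ p ∣ orderOf g → ∑ j, l j * ∑ χ : IrrCharacter G,
        (if χ ∈ Cfsg.principalBlock M G then b j χ * (χ : G → ℂ) g else 0) = 0) → l = 0 := by
  haveI := charP_res hM
  haveI := BlockPairs.isAlgClosed_res hM
  have hidx : ¬ p ∣ (P : Subgroup G).index := P.not_dvd_index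
  obtain ⟨α, β, hαβ⟩ := exists_regular_exponent (G := G) (m := (P : Subgroup G).index)
    (by rw [← (P : Subgroup G).card_mul_index, hP]) hidx
  let A := MonoidAlgebra (Res M) G
  choose W W' hsimple v hv hvn using fun j => exists_simple hP hidx (ω j)
  haveI hfinA : Module.Finite (Res M) A :=
    Module.Finite.equiv (MonoidAlgebra.coeffLinearEquiv (Res M) : A ≃ₗ[Res M] (G →₀ Res M)).symm
  haveI hfin : ∀ j, FiniteDimensional (Res M) (W j ⧸ W' j) := fun j => by
    haveI : Module.Finite (Res M) (W j) :=
      Module.Finite.of_injective ((W j).subtype.restrictScalars (Res M)) Subtype.val_injective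
    exact Module.Finite.of_surjective ((W' j).mkQ.restrictScalars (Res M)) (W' j).mkQ_surjective
  haveI := hsimple
  have hne : ∀ i j, i ≠ j → ∀ h : (W i ⧸ W' i) →ₗ[A] (W j ⧸ W' j), h = 0 := by
    intro i j hij h
    rcases h.bijective_or_eq_zero with hb | h0
    swap
    · exact h0
    exfalso
    have hact : ∀ (g : G) (x : W i ⧸ W' i),
        h ((act g : Module.End (Res M) (W i ⧸ W' i)) x) =
          (act g : Module.End (Res M) (W j ⧸ W' j)) (h x) := fun g x => h.map_smul _ _
    refine hij (hω (eigen_unique hP hidx (v₁ := h (v i)) ?_ ?_ (hv j) (hvn j)))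
    · intro n
      rw [← hact, hv i n, LinearMap.map_smul_of_tower]
    · rintro ⟨y, hy⟩
      obtain ⟨x, rfl⟩ := hb.2 y
      refine hvn i ⟨x, hb.1 ?_⟩
      rw [← hy, normP_apply, normP_apply, map_sum]
      exact Finset.sum_congr rfl fun u _ => hact _ _
  -- the principal block idempotent fixes the simple modules
  set B := Cfsg.principalBlock M G
  have hBu : IsBlockUnion M B := isBlockUnion_of_isPBlock isPBlock_principalBlock
  set f : A := (idemBar M B hBu : A) with hf
  have hf1 : ∑ g : G, f.coeff g = 1 := by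
    rw [hf, ← omegaBar_trivChar, omegaBar_idemBar, if_pos trivChar_mem]
  have hfS : ∀ j (x : W j ⧸ W' j), f • x = x := fun j =>
    idem_smul_eq hP (z := f) (fun x g => coeff_conj_of_mem_ctr (idemBar M B hBu).2 g x)
      (fun a => (Subring.mem_center_iff.1 (idemBar M B hBu).2 a).symm)
      (congrArg Subtype.val (idemBar_mul_self B hBu)) hf1 (hωC j) (hv j) (hvn j)
  -- trace functions and their lifts
  set τ : J → G → Res M := fun j g => LinearMap.trace (Res M) (W j ⧸ W' j) (act g) with hτ
  have hτconj : ∀ j g h, τ j (h * g * h⁻¹) = τ j g := fun j g h => by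
    simp only [hτ]
    rw [act_mul, LinearMap.trace_mul_comm, ← act_mul, ← mul_assoc, inv_mul_cancel, one_mul]
  have hτreg : ∀ j g, τ j (g ^ α) = τ j g := fun j g => by
    simp only [hτ]
    conv_rhs => rw [(hαβ g).2.2.1]
    exact (trace_act_mul_of_pow_eq_one (Commute.pow_pow_self g α β) (hαβ g).2.2.2).symm
  choose a ha using fun j (C : ConjClasses G) => red_surjective (M := M) (τ j (Quotient.out C))
  have haτ : ∀ j g, red M (a j (ConjClasses.mk g)) = τ j g := fun j g => by
    rw [ha]
    obtain ⟨c, hc⟩ := isConj_iff.1 (ConjClasses.mk_eq_mk_iff_isConj.1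
      (Quotient.out_eq (ConjClasses.mk g)))
    conv_rhs => rw [← hc, hτconj]
  have hext := fun j => exists_regular_extension hM (fun g => (a j (ConjClasses.mk g) : ℂ))
    (fun g => (a j (ConjClasses.mk g)).2) (fun g h => by
      rw [ConjClasses.mk_eq_mk_iff_isConj.2 (isConj_iff.2 ⟨h, rfl⟩ : IsConj g (h * g * h⁻¹))])
  choose b hbl hb using hext
  refine ⟨b, fun l hl => ?_⟩
  let ψ : J → G → localRing M := fun j w =>
    ∑ χ : IrrCharacter G, (⟨b j χ, hbl j χ⟩ : localRing M) * ⟨(χ : G → ℂ) w, memLocalRing_char χ w⟩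
  have hψ : ∀ j w, red M (ψ j w) = τ j w := by
    intro j w
    rw [← hτreg, ← haτ j (w ^ α)]
    have : a j (ConjClasses.mk (w ^ α)) = ψ j (w ^ α) := Subtype.ext (by
      rw [AddSubmonoidClass.coe_finsetSum]
      exact (hb j _ (hαβ w).1).symm)
    rw [this, map_sum, map_sum]
    refine Finset.sum_congr rfl fun χ _ => ?_
    rw [map_mul, map_mul, red_char_pow hM χ (hαβ w).2.2.1 (hαβ w).2.2.2]
  let φ : J → G → localRing M := fun j z => ∑ χ : IrrCharacter G,
    if χ ∈ B then (⟨b j χ, hbl j χ⟩ : localRing M) * ⟨(χ : G → ℂ) z, memLocalRing_char χ z⟩ else 0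
  have hφ : ∀ j z, red M (φ j z) = τ j z := by
    intro j z
    have h1 : φ j z = ∑ h : G, (⟨Cfsg.blockCoeff B h, memLocalRing_blockCoeff hBu h⟩ : localRing M) *
        ψ j (h * z) := by
      refine Subtype.ext ?_
      simp only [φ, ψ, AddSubmonoidClass.coe_finsetSum, Subring.coe_mul, Finset.mul_sum]
      rw [Finset.sum_comm]
      refine Finset.sum_congr rfl fun χ _ => ?_
      have h2 : ∑ h : G, Cfsg.blockCoeff B h * (χ : G → ℂ) (h * z) =
          (if χ ∈ B then 1 else 0) * (χ : G → ℂ) z := by
        have h3 : evalFun (χ : G → ℂ) (MonoidAlgebra.single z 1) = (χ : G → ℂ) z := by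
          rw [evalFun, Finset.sum_eq_single z (fun x _ hx => by simp [hx.symm]) (by simp)]
          simp
        rw [← h3, ← omega_setIdemC, ← evalFun_central_mul, evalFun]
        exact Fintype.sum_equiv (Equiv.mulRight z) _ _ fun x => by simp [mul_assoc]
      rw [Finset.sum_congr rfl (g := fun h => b j χ * (Cfsg.blockCoeff B h * (χ : G → ℂ) (h * z)))
        fun h _ => by ring, ← Finset.mul_sum, h2]
      split_ifs <;> simp
    rw [h1, map_sum]
    have h4 : (Algebra.lsmul (Res M) (Res M) (W j ⧸ W' j) f : Module.End (Res M) (W j ⧸ W' j)) = 1 :=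
      LinearMap.ext fun x => hfS j x
    have h5 : (Algebra.lsmul (Res M) (Res M) (W j ⧸ W' j) f : Module.End (Res M) (W j ⧸ W' j)) =
        ∑ h : G, f.coeff h • act h :=
      LinearMap.ext fun x => by
        rw [LinearMap.sum_apply]
        exact smul_eq_sum_act f x
    have h6 : τ j z = LinearMap.trace (Res M) (W j ⧸ W' j)
        ((∑ h : G, f.coeff h • act h) * act z) := by
      rw [← h5, h4, one_mul]
    rw [h6, Finset.sum_mul, map_sum]
    refine Finset.sum_congr rfl fun h _ => ?_
    rw [map_mul, hψ, smul_mul_assoc, map_smul, smul_eq_mul, ← act_mul, hf, coeff_idemBar]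
  choose d hd using fun j => exists_trace_dual (k := Res M) (A := A) (fun i => W i ⧸ W' i) hne j
  choose D hD using fun j g => red_surjective (M := M) ((d j).coeff g)
  let X : Matrix J J (localRing M) := fun i j => ∑ g : G, D j g * φ i (g ^ α)
  have hX : X.map (red M) = 1 := by
    refine Matrix.ext fun i j => ?_
    rw [Matrix.map_apply, map_sum, Matrix.one_apply, ← hd j i]
    have h5 : (Algebra.lsmul (Res M) (Res M) (W i ⧸ W' i) (d j) : Module.End (Res M) (W i ⧸ W' i)) =
        ∑ h : G, (d j).coeff h • act h :=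
      LinearMap.ext fun x => by
        rw [LinearMap.sum_apply]
        exact smul_eq_sum_act (d j) x
    rw [h5, map_sum]
    exact Finset.sum_congr rfl fun g _ => by
      rw [map_mul, hD, hφ, hτreg, map_smul, smul_eq_mul]
  have hdet : (X.map (localRing M).subtype).det ≠ 0 := by
    rw [← RingHom.mapMatrix_apply, ← RingHom.map_det]
    intro h0
    have h1 : X.det = 0 := Subtype.ext h0
    have h2 := RingHom.map_det (red M) X
    rw [h1, map_zero, RingHom.mapMatrix_apply, hX, Matrix.det_one] at h2
    exact zero_ne_one h2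
  refine Matrix.eq_zero_of_vecMul_eq_zero hdet (funext fun j => ?_)
  show ∑ i, l i * ((X i j : localRing M) : ℂ) = 0
  simp only [X, AddSubmonoidClass.coe_finsetSum, Subring.coe_mul, Finset.mul_sum]
  rw [Finset.sum_comm]
  refine Finset.sum_eq_zero fun g _ => ?_
  have h1 := hl (g ^ α) (hαβ g).1
  calc ∑ i, l i * ((D j g : ℂ) * (φ i (g ^ α) : ℂ))
      = (D j g : ℂ) * ∑ i, l i * ∑ χ : IrrCharacter G,
          (if χ ∈ B then b i χ * (χ : G → ℂ) (g ^ α) else 0) := by
        rw [Finset.mul_sum]
        refine Finset.sum_congr rfl fun i _ => ?_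
        simp only [φ, AddSubmonoidClass.coe_finsetSum, apply_ite ((↑) : localRing M → ℂ),
          Subring.coe_mul, ZeroMemClass.coe_zero]
        ring
    _ = 0 := by rw [h1, mul_zero]

end CfsgLib.BlocksCyclic
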