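import Cfsg.Agent.BlocksCyclic.Invariant
import Cfsg.Agent.BlocksLocal.PrincipalSection
import Mathlib.Analysis.SpecialFunctions.Complex.CircleAddChar
import Mathlib.NumberTheory.LegendreSymbol.AddCharacter
import Mathlib.GroupTheory.Transfer

/-!
# The principal block on a Sylow subgroup of order `p`

Orthogonality of the columns at the nonidentity elements of `P`, the multiplicities of the
eigenvalues at a generator, and the action of the normalizer on `P` as units modulo `p`.
-/

set_option autoImplicit false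
set_option linter.style.haveILetI false
set_option linter.unusedSectionVars false

namespace CfsgLib.BlocksCyclic

open Cfsg CfsgLib.Blocks CfsgLib.PrincipalBlock
open scoped ComplexConjugate

universe u

variable {G : Type u} [Group G] [Fintype G] {p : ℕ} [Fact p.Prime] {M : Ideal AlgInt} [M.IsPrime]

section Sylow

variable {P : Sylow p G} (hP : Nat.card (P : Subgroup G) = p) {x : G}
  (hxP : x ∈ (P : Subgroup G)) (hx : x ≠ 1)

include hP hxP hx

theorem orderOf_generator : orderOf x = p := by
  have h : orderOf (⟨x, hxP⟩ : (P : Subgroup G)) = p :=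
    orderOf_eq_prime (by
      have := pow_card_eq_one' (x := (⟨x, hxP⟩ : (P : Subgroup G)))
      rwa [hP] at this) fun h => hx (congrArg Subtype.val h)
  simpa using h

theorem zpowers_generator : Subgroup.zpowers x = (P : Subgroup G) :=
  Subgroup.eq_of_le_of_card_ge (Subgroup.zpowers_le.2 hxP)
    (by rw [hP, Nat.card_zpowers, orderOf_generator hP hxP hx])

theorem centralizer_generator :
    Subgroup.centralizer ({x} : Set G) = Subgroup.centralizer ((P : Subgroup G) : Set G) := by
  refine le_antisymm (fun g hg => Subgroup.mem_centralizer_iff.2 fun w hw => ?_)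
    (fun g hg => Subgroup.mem_centralizer_singleton_iff.2
      (Subgroup.mem_centralizer_iff.1 hg x hxP).symm)
  rw [← zpowers_generator hP hxP hx] at hw
  obtain ⟨i, rfl⟩ := hw
  exact ((show Commute x g from (Subgroup.mem_centralizer_singleton_iff.1 hg).symm).zpow_left i).eq

theorem exists_normal_complement_centralizer :
    ∃ K : Subgroup (Subgroup.centralizer ({x} : Set G)), K.Normal ∧ ¬ p ∣ Nat.card K ∧
      K.index = p := by
  have hle : (P : Subgroup G) ≤ Subgroup.centralizer ({x} : Set G) := by
    intro w hw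
    rw [← zpowers_generator hP hxP hx] at hw
    obtain ⟨i, rfl⟩ := hw
    exact Subgroup.mem_centralizer_singleton_iff.2 ((Commute.refl x).zpow_left i).eq
  set S : Sylow p (Subgroup.centralizer ({x} : Set G)) := P.subtype hle
  have hS : Subgroup.normalizer (S : Set (Subgroup.centralizer ({x} : Set G))) ≤
      Subgroup.centralizer (S : Set (Subgroup.centralizer ({x} : Set G))) := by
    intro g _
    refine Subgroup.mem_centralizer_iff.2 fun w hw => ?_
    have hw' : ((w : Subgroup.centralizer ({x} : Set G)) : G) ∈ (P : Subgroup G) := by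
      have hw2 : w ∈ (S : Subgroup (Subgroup.centralizer ({x} : Set G))) := hw
      rwa [Sylow.coe_subtype, Subgroup.mem_subgroupOf] at hw2
    have hg : (g : G) ∈ Subgroup.centralizer ((P : Subgroup G) : Set G) :=
      centralizer_generator hP hxP hx ▸ g.2
    exact Subtype.ext (Subgroup.mem_centralizer_iff.1 hg _ hw')
  refine ⟨(MonoidHom.transferSylow S hS).ker, inferInstance,
    MonoidHom.not_dvd_card_ker_transferSylow S hS, ?_⟩
  rw [(MonoidHom.ker_transferSylow_isComplement' S hS).symm.index_eq_card]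
  exact (Nat.card_congr (Subgroup.subgroupOfEquivOfLe hle).toEquiv).trans hP

open Classical in
/-- The columns of the principal block at nonidentity elements of `P`. -/
theorem sum_principal_mul_conj (hM : Cfsg.IsPModular p M) {y : G} (hy : y ∈ (P : Subgroup G)) :
    ∑ χ : IrrCharacter G, (if χ ∈ Cfsg.principalBlock M G then
        (χ : G → ℂ) x * conj ((χ : G → ℂ) y) else 0) = if IsConj x y then (p : ℂ) else 0 := by
  set C := Subgroup.centralizer ({x} : Set G)
  haveI := Fintype.ofFinite C
  have hxo : ∃ k, orderOf x = p ^ k := ⟨1, by rw [orderOf_generator hP hxP hx, pow_one]⟩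
  obtain ⟨K, hKn, hK, hKi⟩ := exists_normal_complement_centralizer hP hxP hx
  have hval : ∀ χ : IrrCharacter G,
      (if χ ∈ Cfsg.principalBlock M G then (χ : G → ℂ) x else 0) =
        ∑ k : C, Cfsg.blockCoeff (Cfsg.principalBlock M C) k * (χ : G → ℂ) (x * (k : G)) := by
    intro χ
    have h := BlocksLocal.blockPart_principal_translate hM hxo χ (y := (1 : C))
      (by rw [orderOf_one]; exact (Fact.out : p.Prime).not_dvd_one)
    rw [blockPart_eq_sum _ (isClassFunction_translate (χ : G → ℂ)
      (Characters.isClassFunction_of_isIrr χ.2) x)] at h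
    simp only [mul_one, OneMemClass.coe_one] at h
    exact h.symm
  calc ∑ χ : IrrCharacter G, (if χ ∈ Cfsg.principalBlock M G then
        (χ : G → ℂ) x * conj ((χ : G → ℂ) y) else 0)
      = ∑ χ : IrrCharacter G, (∑ k : C, Cfsg.blockCoeff (Cfsg.principalBlock M C) k *
          (χ : G → ℂ) (x * (k : G))) * conj ((χ : G → ℂ) y) := by
        refine Finset.sum_congr rfl fun χ _ => ?_
        rw [← hval]; split_ifs <;> simp
    _ = ∑ k : C, Cfsg.blockCoeff (Cfsg.principalBlock M C) k *
          (Nat.card {g : G // g * (x * (k : G)) * g⁻¹ = y} : ℂ) := by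
        simp only [Finset.sum_mul]
        rw [Finset.sum_comm]
        refine Finset.sum_congr rfl fun k _ => ?_
        rw [← Characters.sum_irr_mul_conj, Finset.mul_sum]
        exact Finset.sum_congr rfl fun χ _ => by ring
    _ = Cfsg.blockCoeff (Cfsg.principalBlock M C) 1 *
          (Nat.card {g : G // g * (x * ((1 : C) : G)) * g⁻¹ = y} : ℂ) := by
        refine Finset.sum_eq_single (1 : C) (fun k _ hk => ?_) (by simp)
        by_cases hreg : p ∣ orderOf k
        · rw [blockCoeff_eq_zero_of_singular hM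
            (isBlockUnion_of_isPBlock (isPBlock_principalBlock (G := C))) hreg, zero_mul]
        · haveI : IsEmpty {g : G // g * (x * (k : G)) * g⁻¹ = y} := ⟨fun g => hk ?_⟩
          · simp
          have hkx : Commute x (k : G) := (Subgroup.mem_centralizer_singleton_iff.1 k.2).symm
          have hreg' : ¬ p ∣ orderOf (k : G) := by rwa [Subgroup.orderOf_coe]
          have ho : orderOf (x * (k : G)) = p * orderOf (k : G) := by
            rw [hkx.orderOf_mul_eq_mul_orderOf_of_coprime, orderOf_generator hP hxP hx]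
            rw [orderOf_generator hP hxP hx]
            exact (Fact.out : p.Prime).coprime_iff_not_dvd.2 hreg'
          have hd : orderOf y ∣ p := by
            have := orderOf_dvd_natCard (⟨y, hy⟩ : (P : Subgroup G))
            rw [hP] at this
            simpa using this
          rw [← g.2, show g.1 * (x * (k : G)) * g.1⁻¹ = MulAut.conj g.1 (x * (k : G)) from rfl,
            MulEquiv.orderOf_eq, ho] at hd
          have h1 : orderOf (k : G) = 1 :=
            Nat.dvd_one.1 (Nat.dvd_of_mul_dvd_mul_left (Fact.out : p.Prime).pos (by rwa [mul_one]))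
          exact Subtype.ext (orderOf_eq_one_iff.1 h1)
    _ = if IsConj x y then (p : ℂ) else 0 := by
        have hbc := BlocksLocal.blockCoeff_principal_of_normal_complement hM K hK
          ⟨1, by rw [hKi, pow_one]⟩ (1 : C)
        rw [Set.indicator_of_mem (SetLike.mem_coe.2 K.one_mem), hKi, mul_one] at hbc
        simp only [OneMemClass.coe_one, mul_one]
        rw [← Characters.sum_irr_mul_conj]
        split_ifs with h
        · rw [Characters.sum_irr_mul_conj_of_isConj h, mul_comm]
          exact hbc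
        · rw [Characters.sum_irr_mul_conj_of_not_isConj h, mul_zero]

/-- Eigenvalue multiplicities at the generator. -/
theorem exists_multiplicity (χ : IrrCharacter G) :
    ∃ n : ZMod p → ℕ, ∀ m : ZMod p,
      (χ : G → ℂ) (x ^ m.val) = ∑ i : ZMod p, (n i : ℂ) * ZMod.stdAddChar (i * m) := by
  classical
  obtain ⟨d, ρ, hρ, hρc⟩ := χ.2
  obtain ⟨μ, hμ, hj, -⟩ := Characters.exists_eigenvalues ρ x
  rw [orderOf_generator hP hxP hx] at hμ
  set ψ : AddChar (ZMod p) ℂ := ZMod.stdAddChar
  have hψp : ∀ i : ℕ, ψ (1 : ZMod p) ^ i = ψ (i : ZMod p) := fun i => by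
    rw [← AddChar.map_nsmul_eq_pow, nsmul_one]
  have hζ : IsPrimitiveRoot (ψ (1 : ZMod p)) p := by
    refine IsPrimitiveRoot.iff_orderOf.2 (orderOf_eq_prime ?_ fun h => ?_)
    · rw [hψp, ZMod.natCast_self, AddChar.map_zero_eq_one]
    · exact one_ne_zero (ZMod.injective_stdAddChar (h.trans (AddChar.map_zero_eq_one ψ).symm))
  choose idx hidx' hidx using fun l => hζ.eq_pow_of_pow_eq_one (hμ l)
  refine ⟨fun i => (Finset.univ.filter fun l => (idx l : ZMod p) = i).card, fun m => ?_⟩
  rw [← hρc, hj, ← Finset.sum_fiberwise Finset.univ (fun l => (idx l : ZMod p))]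
  refine Finset.sum_congr rfl fun i _ => ?_
  rw [Finset.sum_congr rfl (g := fun _ => ψ (i * m)) fun l hl => ?_, Finset.sum_const, nsmul_eq_mul]
  rw [← (Finset.mem_filter.1 hl).2, ← hidx l, hψp, ← AddChar.map_nsmul_eq_pow]
  congr 1
  rw [nsmul_eq_mul, ZMod.natCast_zmod_val, mul_comm]

theorem pow_val_eq_iff {i j : ℕ} : x ^ i = x ^ j ↔ (i : ZMod p) = (j : ZMod p) := by
  rw [ZMod.natCast_eq_natCast_iff, pow_eq_pow_iff_modEq, orderOf_generator hP hxP hx]

theorem pow_val_natCast (i : ℕ) : x ^ (i : ZMod p).val = x ^ i :=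
  (pow_val_eq_iff hP hxP hx).2 (by rw [ZMod.natCast_zmod_val])

/-- The action of the normalizer on `P`. -/
theorem exists_theta : ∃ θ : Subgroup.normalizer ((P : Subgroup G) : Set G) →* (ZMod p)ˣ,
    (∀ n : Subgroup.normalizer ((P : Subgroup G) : Set G),
      (n : G) * x * (n : G)⁻¹ = x ^ ((θ n : (ZMod p)ˣ) : ZMod p).val) ∧
    ∀ n, θ n = 1 ↔ (n : G) ∈ Subgroup.centralizer ((P : Subgroup G) : Set G) := by
  have hex : ∀ n : Subgroup.normalizer ((P : Subgroup G) : Set G),
      ∃ i : ℕ, (n : G) * x * (n : G)⁻¹ = x ^ i := by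
    intro n
    have h := (Subgroup.mem_normalizer_iff.1 n.2 x).1 hxP
    replace h : (n : G) * x * (n : G)⁻¹ ∈ Subgroup.zpowers x := by
      rw [zpowers_generator hP hxP hx]; exact h
    rw [← (isOfFinOrder_of_finite x).mem_powers_iff_mem_zpowers] at h
    obtain ⟨i, hi⟩ := h
    exact ⟨i, hi.symm⟩
  choose a ha using hex
  let θ₀ : Subgroup.normalizer ((P : Subgroup G) : Set G) →* ZMod p :=
    { toFun := fun n => (a n : ZMod p)
      map_one' := by
        rw [← Nat.cast_one (R := ZMod p), ← pow_val_eq_iff hP hxP hx, ← ha, pow_one]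
        simp
      map_mul' := fun n n' => by
        rw [← Nat.cast_mul, ← pow_val_eq_iff hP hxP hx, ← ha, pow_mul, ← ha n, conj_pow, ← ha n']
        simp [mul_assoc] }
  refine ⟨θ₀.toHomUnits, fun n => ?_, fun n => ?_⟩
  · rw [MonoidHom.coe_toHomUnits]
    show _ = x ^ (a n : ZMod p).val
    rw [pow_val_natCast hP hxP hx, ha]
  · rw [← centralizer_generator hP hxP hx, Subgroup.mem_centralizer_singleton_iff, ← Units.val_inj,
      MonoidHom.coe_toHomUnits, Units.val_one]
    show (a n : ZMod p) = 1 ↔ _
    rw [← Nat.cast_one (R := ZMod p), ← pow_val_eq_iff hP hxP hx, ← ha, pow_one, mul_inv_eq_iff_eq_mul]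

/-- Conjugacy inside `P`. -/
theorem isConj_pow_iff {θ : Subgroup.normalizer ((P : Subgroup G) : Set G) →* (ZMod p)ˣ}
    (hθ : ∀ n : Subgroup.normalizer ((P : Subgroup G) : Set G),
      (n : G) * x * (n : G)⁻¹ = x ^ ((θ n : (ZMod p)ˣ) : ZMod p).val)
    {m m' : ZMod p} (hm : m ≠ 0) :
    IsConj (x ^ m.val) (x ^ m'.val) ↔ ∃ h ∈ θ.range, m' = (h : ZMod p) * m := by
  have key : ∀ (n : Subgroup.normalizer ((P : Subgroup G) : Set G)),
      (n : G) * x ^ m.val * (n : G)⁻¹ = x ^ (((θ n : (ZMod p)ˣ) : ZMod p) * m).val := by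
    intro n
    rw [← conj_pow, hθ, ← pow_mul]
    refine (pow_val_eq_iff hP hxP hx).2 ?_
    rw [Nat.cast_mul, ZMod.natCast_zmod_val, ZMod.natCast_zmod_val, ZMod.natCast_zmod_val]
  constructor
  · intro h
    obtain ⟨g, hg⟩ := isConj_iff.1 h
    have hg' := mem_normalizer_of_fix_coset hP ((P : Subgroup G).pow_mem hxP m.val)
      (fun h1 => hm (by
        rw [← pow_zero x, pow_val_eq_iff hP hxP hx, ZMod.natCast_zmod_val, Nat.cast_zero] at h1
        exact h1)) (g := g⁻¹) (by rw [inv_inv, hg]; exact (P : Subgroup G).pow_mem hxP _)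
    have hgN := Subgroup.inv_mem _ hg'
    rw [inv_inv] at hgN
    refine ⟨θ ⟨g, hgN⟩, ⟨_, rfl⟩, ?_⟩
    have := key ⟨g, hgN⟩
    rw [hg, pow_val_eq_iff hP hxP hx, ZMod.natCast_zmod_val, ZMod.natCast_zmod_val] at this
    exact this
  · rintro ⟨_, ⟨n, rfl⟩, rfl⟩
    exact isConj_iff.2 ⟨n, key n⟩

end Sylow

end CfsgLib.BlocksCyclic
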