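import Cfsg.Agent.BlocksCyclic.Lattice
import Cfsg.Agent.BlocksCyclic.Rank
import Cfsg.Agent.BlocksCyclic.Values
import Cfsg.Agent.Blocks.Knorr

/-!
# The principal block of a group with a Sylow subgroup of order `p`

It has `e + (p - 1) / e` characters, of degrees congruent to `±1` or `±e` modulo `p`.
-/

set_option autoImplicit false
set_option linter.style.haveILetI false
set_option linter.unusedSectionVars false

namespace CfsgLib.BlocksCyclic

open Cfsg CfsgLib.Blocks CfsgLib.PrincipalBlock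
open scoped ComplexConjugate Pointwise

universe u

variable {G : Type u} [Group G] [Fintype G] {p : ℕ} [Fact p.Prime] {M : Ideal AlgInt} [M.IsPrime]

open Classical in
theorem exists_generator {P : Sylow p G} (hP : Nat.card (P : Subgroup G) = p) :
    ∃ x : G, x ∈ (P : Subgroup G) ∧ x ≠ 1 := by
  haveI : Nontrivial (P : Subgroup G) :=
    Finite.one_lt_card_iff_nontrivial.1 (by rw [hP]; exact (Fact.out : p.Prime).one_lt)
  obtain ⟨x, hx⟩ := exists_ne (1 : (P : Subgroup G))
  exact ⟨x, x.2, fun h => hx (Subtype.ext h)⟩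

open Classical in
theorem principalBlock_structure (hM : Cfsg.IsPModular p M) (P : Sylow p G)
    (hP : Nat.card (P : Subgroup G) = p) {x : G} (hxP : x ∈ (P : Subgroup G)) (hx : x ≠ 1)
    {θ : Subgroup.normalizer ((P : Subgroup G) : Set G) →* (ZMod p)ˣ}
    (hθ : ∀ n : Subgroup.normalizer ((P : Subgroup G) : Set G),
      (n : G) * x * (n : G)⁻¹ = x ^ ((θ n : (ZMod p)ˣ) : ZMod p).val)
    (hθC : ∀ n, θ n = 1 ↔ (n : G) ∈ Subgroup.centralizer ((P : Subgroup G) : Set G)) :
    Nat.card (Cfsg.principalBlock M G) =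
        Nat.card θ.range + Nat.card ((ZMod p)ˣ ⧸ θ.range) ∧
      ∀ χ ∈ Cfsg.principalBlock M G,
        ((Cfsg.charDegree (χ : G → ℂ) : ℤ) ≡ 1 [ZMOD p] ∨
          (Cfsg.charDegree (χ : G → ℂ) : ℤ) ≡ -1 [ZMOD p] ∨
          (Cfsg.charDegree (χ : G → ℂ) : ℤ) ≡ (Nat.card θ.range : ℤ) [ZMOD p] ∨
          (Cfsg.charDegree (χ : G → ℂ) : ℤ) ≡ -(Nat.card θ.range : ℤ) [ZMOD p]) := by
  haveI := charP_res hM
  set B := Cfsg.principalBlock M G with hBdef
  set E := θ.range with hE
  haveI := Fintype.ofFinite ((ZMod p)ˣ ⧸ E)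
  haveI := Fintype.ofFinite E
  set ψ : AddChar (ZMod p) ℂ := ZMod.stdAddChar with hψdef
  have hψprim : ψ.IsPrimitive := ZMod.isPrimitive_stdAddChar p
  have hBu : IsBlockUnion M B := isBlockUnion_of_isPBlock isPBlock_principalBlock
  choose n hn using fun χ : IrrCharacter G => exists_multiplicity hP hxP hx χ
  set f : IrrCharacter G → ZMod p → ℂ := fun χ m => (χ : G → ℂ) (x ^ m.val) with hf
  have hsumψ : ∀ a : ZMod p, ∑ m : ZMod p, ψ (m * a) = if a = 0 then (p : ℂ) else 0 := fun a => by
    rw [AddChar.sum_mulShift a hψprim, ZMod.card]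
    split_ifs <;> simp
  have hfour : ∀ χ j, ∑ m : ZMod p, f χ m * ψ (-(j * m)) = (p : ℂ) * (n χ j : ℂ) := by
    intro χ j
    simp only [hf, hn, Finset.sum_mul]
    rw [Finset.sum_comm, Finset.sum_eq_single j]
    · rw [Finset.sum_congr rfl (g := fun _ => (n χ j : ℂ)) fun m _ => by
        rw [mul_assoc, ← hψdef, ← AddChar.map_add_eq_mul, add_neg_cancel, AddChar.map_zero_eq_one,
          mul_one], Finset.sum_const, Finset.card_univ, ZMod.card, nsmul_eq_mul]
    · intro i _ hij
      rw [Finset.sum_congr rfl (g := fun m => (n χ i : ℂ) * ψ (m * (i - j))) fun m _ => by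
        rw [mul_assoc, ← hψdef, ← AddChar.map_add_eq_mul]; ring_nf, ← Finset.mul_sum, hsumψ,
        if_neg (sub_ne_zero.2 hij), mul_zero]
    · simp
  -- the integer vectors
  set c : IrrCharacter G → ZMod p → ℤ := fun χ i => (n χ 0 : ℤ) - (n χ i : ℤ) with hc
  have hc' : ∀ χ i, (p : ℂ) * (c χ i : ℂ) = ∑ m : ZMod p, f χ m * (1 - ψ (-(i * m))) := by
    intro χ i
    simp only [mul_sub, Finset.sum_sub_distrib, mul_one, hfour]
    rw [show ∑ m, f χ m = ∑ m, f χ m * ψ (-(0 * m)) by
      simp only [zero_mul, neg_zero, AddChar.map_zero_eq_one, mul_one], hfour, hc]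
    push_cast; ring
  have hinv : ∀ χ, ∀ h ∈ E, ∀ i : ZMod p, n χ ((h : ZMod p) * i) = n χ i := by
    intro χ h hh i
    have hfi : ∀ m, f χ ((h : ZMod p) * m) = f χ m := fun m => by
      by_cases hm : m = 0
      · rw [hm, mul_zero]
      · obtain ⟨g, hg⟩ := isConj_iff.1 ((isConj_pow_iff hP hxP hx hθ hm).2 ⟨h, hh, rfl⟩)
        simp only [hf]
        rw [← hg, Characters.isClassFunction_of_isIrr χ.2]
    have h1 : (p : ℂ) * (n χ ((h : ZMod p) * i) : ℂ) = (p : ℂ) * (n χ i : ℂ) := by
      rw [← hfour, ← hfour]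
      refine Fintype.sum_equiv (Equiv.mulLeft₀ (h : ZMod p) h.ne_zero) _ _ fun m => ?_
      show _ = f χ ((h : ZMod p) * m) * ψ (-(i * ((h : ZMod p) * m)))
      rw [hfi]
      congr 2
      ring
    exact_mod_cast mul_left_cancel₀ (Nat.cast_ne_zero.2 (Fact.out : p.Prime).ne_zero) h1
  have hcinv : ∀ χ, ∀ h ∈ E, ∀ i : ZMod p, c χ ((h : ZMod p) * i) = c χ i := fun χ h hh i => by
    simp only [hc, hinv χ h hh i]
  have hcol : ∀ m m' : ZMod p, m ≠ 0 →
      ∑ χ : IrrCharacter G, (if χ ∈ B then f χ m * conj (f χ m') else 0) =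
        if ∃ h ∈ E, m' = (h : ZMod p) * m then (p : ℂ) else 0 := by
    intro m m' hm
    have hm1 : x ^ m.val ≠ 1 := fun h1 => hm (by
      rw [← pow_zero x, pow_val_eq_iff hP hxP hx, ZMod.natCast_zmod_val, Nat.cast_zero] at h1
      exact h1)
    have := sum_principal_mul_conj hP ((P : Subgroup G).pow_mem hxP m.val) hm1 hM
      ((P : Subgroup G).pow_mem hxP m'.val)
    rw [hBdef, hf]
    rw [this]
    exact if_congr (isConj_pow_iff hP hxP hx hθ hm) rfl rfl
  -- the Gram matrix
  have hgram0 : ∀ i j : ZMod p, i ≠ 0 → j ≠ 0 →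
      ∑ χ : IrrCharacter G, (if χ ∈ B then (c χ i : ℂ) * (c χ j : ℂ) else 0) =
        (Nat.card E : ℂ) + ∑ h : E, (if j * ((h : (ZMod p)ˣ) : ZMod p) = i then (1 : ℂ) else 0) := by
    intro i j hi hj
    have hp0 : (p : ℂ) ≠ 0 := Nat.cast_ne_zero.2 (Fact.out : p.Prime).ne_zero
    refine mul_left_cancel₀ (mul_ne_zero hp0 hp0) ?_
    rw [Finset.mul_sum]
    calc ∑ χ : IrrCharacter G, (p : ℂ) * p * (if χ ∈ B then (c χ i : ℂ) * (c χ j : ℂ) else 0)
        = ∑ χ : IrrCharacter G, ∑ m : ZMod p, ∑ m' : ZMod p,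
            (1 - ψ (-(i * m))) * conj (1 - ψ (-(j * m'))) *
              (if χ ∈ B then f χ m * conj (f χ m') else 0) := by
          refine Finset.sum_congr rfl fun χ _ => ?_
          split_ifs with hχ
          · rw [show (p : ℂ) * p * ((c χ i : ℂ) * (c χ j : ℂ)) =
              ((p : ℂ) * (c χ i : ℂ)) * conj ((p : ℂ) * (c χ j : ℂ)) by
                rw [map_mul, map_natCast, map_intCast]; ring, hc', hc', map_sum, Finset.sum_mul_sum]
            refine Finset.sum_congr rfl fun m _ => Finset.sum_congr rfl fun m' _ => ?_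
            rw [map_mul]; ring
          · simp
      _ = ∑ m : ZMod p, ∑ m' : ZMod p, (1 - ψ (-(i * m))) * conj (1 - ψ (-(j * m'))) *
            ∑ χ : IrrCharacter G, (if χ ∈ B then f χ m * conj (f χ m') else 0) := by
          rw [Finset.sum_comm]
          refine Finset.sum_congr rfl fun m _ => ?_
          rw [Finset.sum_comm]
          exact Finset.sum_congr rfl fun m' _ => (Finset.mul_sum _ _ _).symm
      _ = ∑ m : ZMod p, ∑ h : E, (p : ℂ) * ((1 - ψ (-(i * m))) *
            conj (1 - ψ (-(j * (((h : (ZMod p)ˣ) : ZMod p) * m))))) := by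
          refine Finset.sum_congr rfl fun m _ => ?_
          by_cases hm : m = 0
          · subst hm; simp
          simp only [hcol m _ hm]
          rw [← Finset.sum_subset (Finset.subset_univ
            (Finset.univ.image fun h : E => ((h : (ZMod p)ˣ) : ZMod p) * m)) ?_,
            Finset.sum_image ?_]
          · refine Finset.sum_congr rfl fun h _ => ?_
            rw [if_pos ⟨_, h.2, rfl⟩]
            ring
          · intro h _ h' _ e
            exact Subtype.ext (Units.ext (mul_right_cancel₀ hm e))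
          · intro m' _ hm'
            rw [if_neg, mul_zero]
            rintro ⟨h, hh, rfl⟩
            exact hm' (Finset.mem_image.2 ⟨⟨h, hh⟩, Finset.mem_univ _, rfl⟩)
      _ = (p : ℂ) * p * ((Nat.card E : ℂ) +
            ∑ h : E, (if j * ((h : (ZMod p)ˣ) : ZMod p) = i then (1 : ℂ) else 0)) := by
          rw [Finset.sum_comm, Nat.card_eq_fintype_card, ← Finset.card_univ, Finset.cast_card,
            ← Finset.sum_add_distrib, Finset.mul_sum]
          refine Finset.sum_congr rfl fun h _ => ?_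
          rw [← Finset.mul_sum, mul_assoc]
          congr 1
          set a : ZMod p := j * ((h : (ZMod p)ˣ) : ZMod p)
          have ha : a ≠ 0 := mul_ne_zero hj (Units.ne_zero _)
          rw [Finset.sum_congr rfl (g := fun m => 1 - ψ (m * (-i)) - ψ (m * a) + ψ (m * (a - i)))
            fun m _ => by
              rw [map_sub, map_one, AddChar.map_neg_eq_conj ψ (j * _), Complex.conj_conj,
                mul_sub, sub_mul, sub_mul, one_mul, one_mul, mul_one,
                ← AddChar.map_add_eq_mul]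
              simp only [a]; ring_nf]
          rw [Finset.sum_add_distrib, Finset.sum_sub_distrib, Finset.sum_sub_distrib, hsumψ, hsumψ,
            hsumψ, if_neg (neg_ne_zero.2 hi), if_neg ha, Finset.sum_const, Finset.card_univ,
            ZMod.card, nsmul_one]
          simp only [sub_eq_zero]
          split_ifs <;> ring
  set cq : IrrCharacter G → ((ZMod p)ˣ ⧸ E) → ℤ := fun χ q => c χ ((q.out : (ZMod p)ˣ) : ZMod p)
    with hcq
  have hcmk : ∀ χ (u : (ZMod p)ˣ), c χ ((u : (ZMod p)ˣ) : ZMod p) = cq χ (QuotientGroup.mk u) := by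
    intro χ u
    obtain ⟨h, hh⟩ := QuotientGroup.mk_out_eq_mul E u
    rw [hcq]
    dsimp only
    rw [hh, Units.val_mul, mul_comm, hcinv χ _ h.2]
  have hgram : ∀ q q', ∑ χ ∈ B.toFinset, cq χ q * cq χ q' =
      (Nat.card E : ℤ) + if q = q' then 1 else 0 := by
    intro q q'
    have h := hgram0 _ _ (Units.ne_zero q.out) (Units.ne_zero q'.out)
    have h1 : (∑ h : E, if ((q'.out : (ZMod p)ˣ) : ZMod p) * ((h : (ZMod p)ˣ) : ZMod p) =
        ((q.out : (ZMod p)ˣ) : ZMod p) then (1 : ℂ) else 0) = if q = q' then 1 else 0 := by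
      by_cases hq : q = q'
      · subst hq
        rw [if_pos rfl, Finset.sum_eq_single (1 : E) (fun h _ hh => if_neg fun e => hh ?_) (by simp)]
        · simp
        · rw [mul_eq_left₀ (Units.ne_zero _), Units.val_eq_one] at e
          exact Subtype.ext e
      · rw [if_neg hq, Finset.sum_eq_zero fun h _ => if_neg fun e => hq ?_]
        rw [← Units.val_mul, Units.val_inj] at e
        rw [← QuotientGroup.out_eq' q, ← QuotientGroup.out_eq' q', ← e,
          QuotientGroup.mk_mul_of_mem _ h.2]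
    rw [h1, ← Finset.sum_filter] at h
    apply Int.cast_injective (α := ℂ)
    push_cast
    refine Eq.trans (Finset.sum_congr ?_ fun χ _ => rfl) h
    ext χ; simp
  -- no vanishing vector
  have hne : ∀ χ ∈ B.toFinset, ∃ q, cq χ q ≠ 0 := by
    intro χ hχ
    rw [Set.mem_toFinset] at hχ
    by_contra! h0
    have hall : ∀ i : ZMod p, n χ i = n χ 0 := fun i => by
      by_cases hi : i = 0
      · rw [hi]
      · have := h0 (QuotientGroup.mk (Units.mk0 i hi))
        rw [← hcmk, Units.val_mk0, hc] at this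
        have : (n χ 0 : ℤ) = n χ i := sub_eq_zero.1 this
        exact_mod_cast this.symm
    have hvan : ∀ m : ZMod p, m ≠ 0 → f χ m = 0 := fun m hm => by
      simp only [hf, hn, hall]
      rw [← Finset.mul_sum, ← hψdef, Finset.sum_congr rfl fun i _ => congrArg ψ (rfl : i * m = i * m),
        hsumψ, if_neg hm, mul_zero]
    have hdef := defect_zero_of_vanishing hM χ fun g hg => by
      obtain ⟨S, hS⟩ := (IsPGroup.of_card (p := p) (n := 1)
        (show Nat.card (Subgroup.zpowers g) = p ^ 1 by rw [Nat.card_zpowers, hg, pow_one])).exists_le_sylow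
      obtain ⟨a, ha⟩ := MulAction.exists_smul_eq G S P
      have hgP : a * g * a⁻¹ ∈ (P : Subgroup G) := by
        have h1 : MulAut.conj a • (S : Subgroup G) = (P : Subgroup G) := by
          rw [← ha, Sylow.coe_subgroup_smul]
        rw [← h1]
        exact Subgroup.smul_mem_pointwise_smul _ _ _ (hS (Subgroup.mem_zpowers g))
      rw [← zpowers_generator hP hxP hx,
        ← (isOfFinOrder_of_finite x).mem_powers_iff_mem_zpowers] at hgP
      obtain ⟨i, hi⟩ := hgP
      have hi' : x ^ i = a * g * a⁻¹ := hi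
      rw [← Characters.isClassFunction_of_isIrr χ.2 g a, ← hi', ← pow_val_natCast hP hxP hx]
      refine hvan _ fun h0' => ?_
      rw [← Nat.cast_zero (R := ZMod p), ← pow_val_eq_iff hP hxP hx, pow_zero, hi', mul_inv_eq_one,
        mul_eq_left] at h0'
      rw [h0', orderOf_one] at hg
      exact (Fact.out : p.Prime).ne_one hg.symm
    have hone : Cfsg.blockOf M (χ : G → ℂ) = {χ} := by
      refine (defect_zero_iff hM χ).1 fun hd => ?_
      have h1 := ((Fact.out : p.Prime).dvd_iff_one_le_factorization ?_).1 hd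
      · rw [Nat.factorization_div (charDegree_dvd_card χ), Finsupp.tsub_apply, hdef] at h1
        omega
      · exact (Nat.div_pos (Nat.le_of_dvd Nat.card_pos (charDegree_dvd_card χ))
          (Nat.pos_of_ne_zero (charDegree_ne_zero χ))).ne'
    have h1 : trivChar G ∈ Cfsg.blockOf M (χ : G → ℂ) := by
      rw [principalBlock_eq] at hBdef
      rw [hBdef] at hχ
      exact mem_blockOf.2 (sameBlock_symm (mem_blockOf.1 hχ))
    rw [hone, Set.mem_singleton_iff] at h1
    have h2 := hvan 1 one_ne_zero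
    rw [← h1] at h2
    exact one_ne_zero h2
  -- the lower bound
  have hcard : Nat.card E + Fintype.card ((ZMod p)ˣ ⧸ E) ≤ B.toFinset.card := by
    obtain ⟨g₀, hg₀⟩ := IsCyclic.exists_ofOrder_eq_natCard (α := E)
    let τ : (ZMod p)ˣ →* (Res M)ˣ := Units.map (ZMod.castHom dvd_rfl (Res M) : ZMod p →* Res M)
    have hτ : Function.Injective τ := Units.map_injective (RingHom.injective _)
    let ω : Fin (Nat.card E) → (Subgroup.normalizer ((P : Subgroup G) : Set G) →* (Res M)ˣ) :=
      fun j => ((powMonoidHom (j : ℕ)).comp τ).comp θ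
    have hω : Function.Injective ω := by
      intro i j hij
      obtain ⟨n₀, hn₀⟩ := g₀.2
      have h1 := DFunLike.congr_fun hij n₀
      simp only [ω, MonoidHom.comp_apply, powMonoidHom_apply, hn₀, ← map_pow] at h1
      have h2 : g₀ ^ (i : ℕ) = g₀ ^ (j : ℕ) := Subtype.ext (by
        simpa using hτ h1)
      exact Fin.ext (pow_injOn_Iio_orderOf (Set.mem_Iio.2 (lt_of_lt_of_eq i.2 hg₀.symm))
        (Set.mem_Iio.2 (lt_of_lt_of_eq j.2 hg₀.symm)) h2)
    obtain ⟨b, hb⟩ := exists_regular_functions hM P hP ω hω fun j n' hn' => by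
      simp only [ω, MonoidHom.comp_apply, (hθC n').2 hn', map_one]
    let V : Fin (Nat.card E) ⊕ ((ZMod p)ˣ ⧸ E) → ({χ // χ ∈ B.toFinset} → ℂ) :=
      Sum.elim (fun j χ => b j χ.1) (fun q χ => conj (f χ.1 ((q.out : (ZMod p)ˣ) : ZMod p)))
    have hV : LinearIndependent ℂ V := by
      rw [Fintype.linearIndependent_iff]
      intro l hl
      have hpt : ∀ χ : IrrCharacter G, χ ∈ B → ∑ j, l (Sum.inl j) * b j χ +
          ∑ q, l (Sum.inr q) * conj (f χ ((q.out : (ZMod p)ˣ) : ZMod p)) = 0 := by
        intro χ hχ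
        have := congrFun hl ⟨χ, Set.mem_toFinset.2 hχ⟩
        rw [Fintype.sum_sum_type, Pi.add_apply, Finset.sum_apply, Finset.sum_apply] at this
        simpa [V] using this
      have hsum : ∀ g : G,
          (∑ j, l (Sum.inl j) * ∑ χ : IrrCharacter G, (if χ ∈ B then b j χ * (χ : G → ℂ) g else 0)) +
            ∑ q, l (Sum.inr q) * ∑ χ : IrrCharacter G,
              (if χ ∈ B then (χ : G → ℂ) g * conj (f χ ((q.out : (ZMod p)ˣ) : ZMod p)) else 0) = 0 := by
        intro g
        simp only [Finset.mul_sum]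
        rw [Finset.sum_comm]
        conv_lhs => arg 2; rw [Finset.sum_comm]
        rw [← Finset.sum_add_distrib]
        refine Finset.sum_eq_zero fun χ _ => ?_
        by_cases hχ : χ ∈ B
        · simp only [if_pos hχ]
          calc _ = (χ : G → ℂ) g * (∑ j, l (Sum.inl j) * b j χ +
              ∑ q, l (Sum.inr q) * conj (f χ ((q.out : (ZMod p)ˣ) : ZMod p))) := by
                rw [mul_add, Finset.mul_sum, Finset.mul_sum]
                congr 1 <;> exact Finset.sum_congr rfl fun _ _ => by ring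
            _ = 0 := by rw [hpt χ hχ, mul_zero]
        · simp [hχ]
      have hu : ∀ q : (ZMod p)ˣ ⧸ E, p ∣ orderOf (x ^ ((q.out : (ZMod p)ˣ) : ZMod p).val) := by
        intro q
        rw [orderOf_eq_prime (p := p) ?_ fun h1 => Units.ne_zero q.out ?_]
        · have hxp : x ^ p = 1 := by
            have := pow_orderOf_eq_one x
            rwa [orderOf_generator hP hxP hx] at this
          rw [← pow_mul, mul_comm, pow_mul, hxp, one_pow]
        · rw [← pow_zero x, pow_val_eq_iff hP hxP hx, ZMod.natCast_zmod_val, Nat.cast_zero] at h1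
          exact h1
      have h1 : (fun j => l (Sum.inl j)) = 0 := hb _ fun g hg => by
        have := hsum g
        rw [Finset.sum_eq_zero (s := (Finset.univ : Finset ((ZMod p)ˣ ⧸ E))) fun q _ => by
          rw [sum_union_mul_conj_eq_zero hM hBu hg (hu q), mul_zero], add_zero] at this
        exact this
      rintro (j | q)
      · exact congrFun h1 j
      have h3 := hsum (x ^ ((q.out : (ZMod p)ˣ) : ZMod p).val)
      rw [Finset.sum_eq_zero fun j _ => by rw [show l (Sum.inl j) = 0 from congrFun h1 j, zero_mul],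
        zero_add, Finset.sum_eq_single q] at h3
      · rw [hcol _ _ (Units.ne_zero _), if_pos ⟨1, E.one_mem, by simp⟩] at h3
        exact (mul_eq_zero.1 h3).resolve_right (Nat.cast_ne_zero.2 (Fact.out : p.Prime).ne_zero)
      · intro q' _ hne'
        rw [hcol _ _ (Units.ne_zero _), if_neg, mul_zero]
        rintro ⟨h, hh, he⟩
        rw [← Units.val_mul, Units.val_inj] at he
        refine hne' ?_
        rw [← QuotientGroup.out_eq' q', he, mul_comm, QuotientGroup.mk_mul_of_mem _ hh,
          QuotientGroup.out_eq']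
      · simp
    have := hV.fintype_card_le_finrank
    rwa [Fintype.card_sum, Fintype.card_fin, Module.finrank_fintype_fun_eq_card,
      Fintype.card_coe] at this
  obtain ⟨hk, hrows⟩ := gram_structure (Nat.card E) B.toFinset cq hgram hne hcard
  refine ⟨?_, fun χ hχ => ?_⟩
  · rw [Nat.card_eq_fintype_card, ← Set.toFinset_card, hk, Nat.card_eq_fintype_card,
      Nat.card_eq_fintype_card (α := (ZMod p)ˣ ⧸ E)]
  have hsumc : ∑ i : ZMod p, c χ i = (Nat.card E : ℤ) * ∑ q, cq χ q := by
    have hc0 : c χ 0 = 0 := by simp [hc]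
    rw [Fintype.sum_eq_add_sum_subtype_ne _ (0 : ZMod p), hc0, zero_add,
      ← Fintype.sum_equiv unitsEquivNeZero (fun u => c χ ((u : (ZMod p)ˣ) : ZMod p)) _
        (fun u => rfl),
      Finset.sum_congr rfl fun u _ => hcmk χ u, Finset.mul_sum,
      ← Finset.sum_fiberwise Finset.univ (QuotientGroup.mk : (ZMod p)ˣ → (ZMod p)ˣ ⧸ E)]
    refine Finset.sum_congr rfl fun q _ => ?_
    rw [Finset.sum_congr rfl (g := fun _ => cq χ q) fun u hu => by
      rw [(Finset.mem_filter.1 hu).2], Finset.sum_const, nsmul_eq_mul]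
    congr 1
    rw [← Fintype.card_subtype, ← Nat.card_eq_fintype_card]
    obtain ⟨u, rfl⟩ := QuotientGroup.mk_surjective q
    exact_mod_cast Nat.card_congr
      { toFun := fun v : {v : (ZMod p)ˣ // (QuotientGroup.mk v : (ZMod p)ˣ ⧸ E) = QuotientGroup.mk u} =>
          (⟨u⁻¹ * v.1, QuotientGroup.eq.1 v.2.symm⟩ : E)
        invFun := fun h => ⟨u * h.1, (QuotientGroup.mk_mul_of_mem u h.2)⟩
        left_inv := fun v => Subtype.ext (mul_inv_cancel_left u v.1)
        right_inv := fun h => Subtype.ext (inv_mul_cancel_left u h.1) }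
  have hdeg : (Cfsg.charDegree (χ : G → ℂ) : ℤ) =
      (p : ℤ) * (n χ 0 : ℤ) - (Nat.card E : ℤ) * ∑ q, cq χ q := by
    rw [← hsumc]
    simp only [hc, Finset.sum_sub_distrib, Finset.sum_const, Finset.card_univ, ZMod.card,
      nsmul_eq_mul, sub_sub_cancel]
    apply Int.cast_injective (α := ℂ)
    push_cast
    rw [charDegree_cast]
    have := hn χ 0
    simp only [ZMod.val_zero, pow_zero, mul_zero, AddChar.map_zero_eq_one, mul_one] at this
    exact this
  have hEt : (Nat.card E : ℤ) * (Fintype.card ((ZMod p)ˣ ⧸ E) : ℤ) = (p : ℤ) - 1 := by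
    have h := Subgroup.card_eq_card_quotient_mul_card_subgroup E
    rw [Nat.card_eq_fintype_card (α := (ZMod p)ˣ), ZMod.card_units,
      Nat.card_eq_fintype_card (α := (ZMod p)ˣ ⧸ E)] at h
    have h1 := (Fact.out : p.Prime).one_le
    have h2 : ((p - 1 : ℕ) : ℤ) = (p : ℤ) - 1 := by omega
    rw [← h2, h]
    push_cast; ring
  rcases hrows χ (Set.mem_toFinset.2 hχ) with (h | h) | (h | h) <;> rw [h] at hdeg
  · left
    rw [hdeg, hEt]
    exact Int.modEq_iff_dvd.2 ⟨-(n χ 0 : ℤ) + 1, by ring⟩
  · right; left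
    rw [hdeg, mul_neg, hEt]
    exact Int.modEq_iff_dvd.2 ⟨-(n χ 0 : ℤ) - 1, by ring⟩
  · right; right; right
    rw [hdeg]
    exact Int.modEq_iff_dvd.2 ⟨-(n χ 0 : ℤ), by ring⟩
  · right; right; left
    rw [hdeg]
    exact Int.modEq_iff_dvd.2 ⟨-(n χ 0 : ℤ), by ring⟩

end CfsgLib.BlocksCyclic
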